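import Groth.Agent.QuotStk.SpQuotFib
import Groth.Agent.StkBase.StackMk

/-!
# Sheaf torsors form a stack
-/

set_option autoImplicit false
set_option backward.isDefEq.respectTransparency false
set_option backward.isDefEq.respectTransparency.types false
universe u

open CategoryTheory CategoryTheory.Limits AlgebraicGeometry Opposite AlgSp MonoidalCategory CartesianMonoidalCategory
open CategoryTheory.MonObj
open Groth.StkBase (HomExt HomGlue ObjGlue IsVert map_map)

namespace Groth.QuotStk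

noncomputable section

variable {S : Scheme.{u}} {B : Sp S} {G : Over B} [GrpObj G] {X : Over B} {aX : GAction G X}

local notation "QS" => AlgSt.SpQuotObj Scheme.fppfPrecoverage G aX
local notation "QSt" => AlgSt.SpQuotSt Scheme.fppfPrecoverage G aX

theorem cart_of_base {A' A : QS} (φ : A' ⟶ A) {k : A'.base ⟶ A.base} (hk : φ.base = k)
    (w : (yon S).map k ≫ A.b = A'.b) : IsPullback φ.top A'.π A.π (AlgSt.bHom k w) := by
  subst hk
  exact φ.cart

theorem spHom_ext {A'' A' A : QS} (φ : A' ⟶ A) {χ χ' : A'' ⟶ A'} (h : χ.base = χ'.base)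
    (h' : χ ≫ φ = χ' ≫ φ) : χ = χ' :=
  (existsUnique_hom φ (χ ≫ φ) χ.base rfl).unique ⟨rfl, rfl⟩ ⟨h.symm, h'.symm⟩

theorem base_eq_of_isVert {a b : QS} {χ : a ⟶ b} (h : IsVert (QSt).p χ) : χ.base = eqToHom h.obj_eq :=
  h.map_eq

theorem pull_b (a : QS) {V : Over S} (k : V ⟶ a.base) : (yon S).map k ≫ a.b = (pullObj a k).b :=
  (congrArg (fun k => (yon S).map k ≫ a.b) (pullHom_base a k).symm).trans (pullHom a k).wb

theorem pullHom_cart (a : QS) {V : Over S} (k : V ⟶ a.base) :
    IsPullback (pullHom a k).top (pullObj a k).π a.π (AlgSt.bHom k (pull_b a k)) :=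
  cart_of_base _ (pullHom_base a k) _

section Hom

variable {U : Over S} {R : Sieve U}

theorem homExt_spQuotSt (hR : R ∈ J S U) : HomExt QSt R := by
  intro a b ha χ χ' hχ hχ' hl
  subst ha
  refine AlgSt.SpQuotObj.hom_ext ((base_eq_of_isVert hχ).trans (base_eq_of_isVert hχ').symm) ?_
  refine cov_ext (fun z => pull_b a z.obj.hom) hR (fun z => pullHom_cart a z.obj.hom) fun z => ?_
  refine congrArg (fun m => m.top) (hl (pullHom a z.obj.hom) ?_)
  rw [eqToHom_refl, Category.comp_id]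
  show R (pullHom a z.obj.hom).base
  rw [pullHom_base]
  exact z.property

theorem homGlue_spQuotSt (hR : R ∈ J S U) : HomGlue QSt R := by
  intro a b ha hb m hm hc
  subst ha
  have hab : b.base = a.base := hb
  let bz := fun z : (Stk.sieveCat R).obj => (pullObj a z.obj.hom).b
  have hbz : ∀ z, (yon S).map z.obj.hom ≫ a.b = bz z := fun z => pull_b a z.obj.hom
  have hcart := fun z : (Stk.sieveCat R).obj => pullHom_cart a z.obj.hom
  have hl : ∀ z : (Stk.sieveCat R).obj,
      R ((QSt).p.map (pullHom a z.obj.hom) ≫ eqToHom (rfl : (QSt).p.obj a = _)) := fun z => by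
    rw [eqToHom_refl, Category.comp_id]
    show R (pullHom a z.obj.hom).base
    rw [pullHom_base]
    exact z.property
  let f := fun z : (Stk.sieveCat R).obj => m (pullHom a z.obj.hom) (hl z)
  have hfb : ∀ z, (f z).base = z.obj.hom ≫ eqToHom hab.symm := fun z =>
    (hm _ (hl z)).trans (congrArg (· ≫ eqToHom hab.symm) (pullHom_base a z.obj.hom))
  obtain ⟨t, ht⟩ := cov_glue hbz hR hcart (fun z => (f z).top) (fun z z' k s h₁ h₂ => by
    obtain ⟨κ, ⟨hκ₁, hκ₂⟩, -⟩ := existsUnique_hom (pullHom a z'.obj.hom) (pullHom a z.obj.hom) k.hom.left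
      (by rw [pullHom_base, pullHom_base]; exact Over.w k.hom)
    have e : κ.top = s := (hcart z').hom_ext ((congrArg (fun m => m.top) hκ₂).trans h₁.symm)
      ((cart_of_base κ hκ₁ (bz_map hbz k)).w.trans h₂.symm)
    have hkl : R ((QSt).p.map (κ ≫ pullHom a z'.obj.hom) ≫ eqToHom (rfl : (QSt).p.obj a = _)) :=
      hκ₂.symm ▸ hl z
    have hmc : ∀ (l l' : pullObj a z.obj.hom ⟶ a) (_ : l = l') (h h'), m l h = m l' h' := by
      rintro l _ rfl h h'
      rfl
    rw [← e]
    exact congrArg (fun m => m.top) ((hc _ (hl z') κ hkl).trans (hmc _ _ hκ₂ hkl (hl z))))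
  have wb : (yon S).map (eqToHom hab.symm) ≫ b.b = a.b := by
    refine point_ext hR fun V k hk => ?_
    let z : (Stk.sieveCat R).obj := ⟨Over.mk k, hk⟩
    rw [← Category.assoc, ← Functor.map_comp]
    refine (congrArg (fun k => (yon S).map k ≫ b.b) (hfb z).symm).trans ((f z).wb.trans (hbz z).symm)
  let e : Over.mk a.b ⟶ Over.mk b.b := AlgSt.bHom (eqToHom hab.symm) wb
  have hcb : ∀ z, IsPullback (f z).top (pullObj a z.obj.hom).π b.π (memHom hbz z ≫ e) := fun z => by
    have w' : (yon S).map (z.obj.hom ≫ eqToHom hab.symm) ≫ b.b = bz z := by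
      rw [Functor.map_comp, Category.assoc, wb]
      exact hbz z
    have h := cart_of_base (f z) (hfb z) w'
    rwa [AlgSt.bHom_comp z.obj.hom (eqToHom hab.symm) (hbz z) wb] at h
  have htπ : t ≫ b.π = a.π ≫ e := cov_ext hbz hR hcart fun z => by
    rw [← Category.assoc, ht, (hcb z).w, ← Category.assoc, ← Category.assoc, (hcart z).w]
  have heqv : a.act.act ≫ t = (G ◁ t) ≫ b.act.act := by
    refine cov_ext hbz hR (fun z => (AlgSt.isPullback_whiskerLeft' (G := G) (pullHom a z.obj.hom).top).paste_vert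
      (hcart z)) fun z => ?_
    have h₁ := (pullHom a z.obj.hom).eqv
    have h₂ := (f z).eqv
    rw [← Category.assoc, ← h₁, Category.assoc, ht, h₂, ← MonoidalCategory.whiskerLeft_comp_assoc, ht]
  have hwφ : t ≫ b.φ = a.φ := cov_ext hbz hR hcart fun z => by
    rw [← Category.assoc, ht, (f z).wφ, (pullHom a z.obj.hom).wφ]
  have he : IsIso e := by
    refine ⟨⟨AlgSt.bHom (eqToHom hab) ?_, ?_, ?_⟩⟩
    · rw [← wb, ← Category.assoc, ← Functor.map_comp, eqToHom_trans, eqToHom_refl, CategoryTheory.Functor.map_id,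
        Category.id_comp]
    · ext : 1
      simp [e, eqToHom_map]
    · ext : 1
      simp [e, eqToHom_map]
  have htiso : IsIso t := by
    refine cov_isIso hbz hR (p' := b.π ≫ inv e) t hcart fun z => ?_
    rw [ht]
    refine (hcb z).of_iso (Iso.refl _) (Iso.refl _) (Iso.refl _) (asIso e).symm ?_ ?_ ?_ ?_
    all_goals simp
  let χ : a ⟶ b := ⟨eqToHom hab.symm, wb, t, heqv, IsPullback.of_horiz_isIso ⟨htπ⟩, hwφ⟩
  have hv : IsVert (QSt).p χ := ⟨hab.symm, rfl⟩
  refine ⟨χ, hv, fun a' l hl' => ?_⟩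
  have hl'' : R l.base := by rwa [eqToHom_refl, Category.comp_id] at hl'
  let z : (Stk.sieveCat R).obj := ⟨Over.mk l.base, hl''⟩
  obtain ⟨κ, ⟨-, hκ⟩, -⟩ := existsUnique_hom (pullHom a z.obj.hom) l (𝟙 a'.base)
    ((Category.id_comp _).trans (pullHom_base a z.obj.hom))
  have hkl : R ((QSt).p.map (κ ≫ pullHom a z.obj.hom) ≫ eqToHom (rfl : (QSt).p.obj a = _)) := hκ.symm ▸ hl'
  have hz : pullHom a z.obj.hom ≫ χ = f z :=
    AlgSt.SpQuotObj.hom_ext ((congrArg (· ≫ eqToHom hab.symm) (pullHom_base a z.obj.hom)).trans (hfb z).symm) (ht z)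
  have hmc : ∀ (l₁ l₂ : a' ⟶ a) (_ : l₁ = l₂) (h h'), m l₁ h = m l₂ h' := by
    rintro l _ rfl h h'
    rfl
  rw [← hmc _ _ hκ hkl hl', ← hc _ (hl z) κ hkl]
  conv_lhs => rw [← hκ]
  rw [Category.assoc, hz]

end Hom

section Obj

variable {U : Over S} {R : Sieve U}

theorem objGlue_spQuotSt (hR : R ∈ J S U) : ObjGlue QSt R := by
  intro H
  -- normalised family
  let A : (Stk.sieveCat R).obj → QS := fun z => pullObj (H.obj z) (eqToHom (H.w_obj z).symm)
  let i : ∀ z, A z ⟶ H.obj z := fun z => pullHom _ _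
  have hi : ∀ z, (i z).base = eqToHom (H.w_obj z).symm := fun z => pullHom_base _ _
  have hj : ∀ z, ∃ j : H.obj z ⟶ A z, j.base = eqToHom (H.w_obj z) ∧ j ≫ i z = 𝟙 _ := fun z => by
    refine (existsUnique_hom (i z) (𝟙 (H.obj z)) (eqToHom (H.w_obj z)) ?_).exists
    rw [hi]
    exact eqToHom_trans _ _
  choose j hj₁ hj₂ using hj
  have hM : ∀ ⦃z z' : (Stk.sieveCat R).obj⦄ (t : z ⟶ z'),
      ∃ M : A z ⟶ A z', M.base = t.hom.left ∧ M ≫ i z' = i z ≫ H.map t := fun z z' t => by
    refine (existsUnique_hom (i z') (i z ≫ H.map t) t.hom.left ?_).exists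
    rw [hi, AlgSt.SpQuotObj.comp_base, hi]
    exact ((congrArg (eqToHom (H.w_obj z).symm ≫ ·) (map_map H t)).trans (by simp; rfl)).symm
  choose M hM₁ hM₂ using hM
  have hMc : ∀ ⦃z z' z'' : (Stk.sieveCat R).obj⦄ (t : z ⟶ z') (t' : z' ⟶ z''), M (t ≫ t') = M t ≫ M t' := by
    intro z z' z'' t t'
    refine spHom_ext (i z'') ?_ ?_
    · rw [hM₁, AlgSt.SpQuotObj.comp_base, hM₁, hM₁]
      rfl
    · rw [hM₂, Category.assoc, hM₂, ← Category.assoc, hM₂, Category.assoc]
      exact congrArg (i z ≫ ·) (H.toFunctor.map_comp t t')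
  have hjM : ∀ ⦃z z' : (Stk.sieveCat R).obj⦄ (t : z ⟶ z'), H.map t ≫ j z' = j z ≫ M t := by
    intro z z' t
    refine spHom_ext (i z') ?_ ?_
    · rw [AlgSt.SpQuotObj.comp_base, AlgSt.SpQuotObj.comp_base, hj₁, hj₁, hM₁]
      exact (congrArg (· ≫ eqToHom (H.w_obj z')) (map_map H t)).trans (by simp; rfl)
    · rw [Category.assoc, hj₂, Category.assoc, hM₂, ← Category.assoc, hj₂, Category.comp_id, Category.id_comp]
  -- the glued section
  obtain ⟨bU, hbU⟩ := point_glue (Q := B) hR (fun V k hk => (A ⟨Over.mk k, hk⟩).b) (fun V V' k hk l hlk => by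
    let t : (⟨Over.mk (l ≫ k), hlk⟩ : (Stk.sieveCat R).obj) ⟶ ⟨Over.mk k, hk⟩ :=
      ObjectProperty.homMk (Over.homMk l rfl)
    exact (M t).wb.symm.trans (congrArg (fun g => (yon S).map g ≫ (A ⟨Over.mk k, hk⟩).b) (hM₁ t)))
  have hbz : ∀ z, (yon S).map z.obj.hom ≫ bU = (A z).b := fun z => hbU z.obj.hom z.property
  have hcM : ∀ ⦃z z' : (Stk.sieveCat R).obj⦄ (t : z ⟶ z'),
      IsPullback (M t).top (A z).π (A z').π (transHom hbz t) := fun z z' t => cart_of_base _ (hM₁ t) _
  -- the glued sheaf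
  let D : SheafDD R :=
    { P := fun z => (A z).P.left
      π := fun z => (A z).π.left
      τ := fun z z' t => (M t).top.left
      cart := fun z z' t => isPullback_left' (hcM t)
      τ_comp := fun z z' z'' t t' => congrArg (fun m => m.top.left) (hMc t t') }
  obtain ⟨P0, π0, q, hq, hqn⟩ := exists_glue D
  let P : Over B := Over.mk (π0 ≫ bU)
  let π : P ⟶ Over.mk bU := Over.homMk π0 rfl
  let q' : ∀ z, (A z).P ⟶ P := fun z => Over.homMk (q z) (by
    show q z ≫ π0 ≫ bU = (A z).P.hom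
    rw [← Category.assoc, (hq z).w, Category.assoc, hbz]
    exact Over.w (A z).π)
  have hq' : ∀ z, IsPullback (q' z) (A z).π π (memHom hbz z) := fun z =>
    isPullback_of_left (Over.OverMorphism.ext (hq z).w) (hq z)
  have hqn' : ∀ ⦃z z' : (Stk.sieveCat R).obj⦄ (t : z ⟶ z'), (M t).top ≫ q' z' = q' z :=
    fun z z' t => Over.OverMorphism.ext (hqn t)
  -- the action
  have hGq : ∀ (Y : Over B) z, IsPullback (Y ◁ q' z) (snd Y (A z).P ≫ (A z).π) (snd Y P ≫ π) (memHom hbz z) :=
    fun Y z => (AlgSt.isPullback_whiskerLeft' (G := Y) (q' z)).paste_vert (hq' z)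
  obtain ⟨act, hact⟩ := cov_glue hbz hR (hGq G) (fun z => (A z).act.act ≫ q' z) (fun z z' t s h₁ h₂ => by
    have e : s = G ◁ (M t).top := (hGq G z').hom_ext
      (by rw [h₁, ← MonoidalCategory.whiskerLeft_comp, hqn'])
      (by rw [h₂, whiskerLeft_snd_assoc, (hcM t).w, Category.assoc])
    rw [e, ← Category.assoc, ← (M t).eqv, Category.assoc, hqn'])
  have hone : (η[G] ▷ P) ≫ act = (λ_ P).hom := cov_ext hbz hR (hGq (𝟙_ (Over B))) fun z => by
    rw [← Category.assoc, whisker_exchange, Category.assoc, hact, ← Category.assoc, (A z).act.one_act,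
      leftUnitor_naturality]
  have hmul : (μ[G] ▷ P) ≫ act = (α_ G G P).hom ≫ (G ◁ act) ≫ act :=
    cov_ext hbz hR (hGq (G ⊗ G)) fun z => by
      rw [← Category.assoc, whisker_exchange, Category.assoc, hact, ← Category.assoc, (A z).act.mul_act,
        ← Category.assoc ((G ⊗ G) ◁ q' z), associator_naturality_right, Category.assoc, Category.assoc,
        Category.assoc, ← MonoidalCategory.whiskerLeft_comp_assoc, hact, MonoidalCategory.whiskerLeft_comp,
        Category.assoc, hact]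
  have hsq : act ≫ π = snd G P ≫ π := cov_ext hbz hR (hGq G) fun z => by
    rw [← Category.assoc, hact, Category.assoc, (hq' z).w, ← Category.assoc, (A z).cart.w, whiskerLeft_snd_assoc,
      (hq' z).w, Category.assoc]
  let t : G ⊗ P ⟶ pullback π π := pullback.lift act (snd G P) hsq
  have sqQ : IsPullback (pullback.fst π π) (pullback.snd π π) π π := IsPullback.of_hasPullback _ _
  have hT : ∀ z, IsPullback ((G ◁ q' z) ≫ t) (A z).act.act (pullback.fst π π) (q' z) := fun z => by
    refine IsPullback.of_right (h₁₂ := pullback.snd π π) (h₂₂ := π) ?_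
      (by rw [Category.assoc, pullback.lift_fst, hact]) sqQ.flip
    rw [Category.assoc, pullback.lift_snd, whiskerLeft_snd, (hq' z).w]
    exact (A z).cart.flip.paste_horiz (hq' z)
  have htiso : IsIso t := cov_isIso hbz hR (p' := pullback.fst π π ≫ π) t (hGq G) fun z => by
    have h := (hT z).paste_vert (hq' z)
    rwa [(A z).cart.w] at h
  have hcart : IsPullback act (snd G P) π π :=
    sqQ.of_iso (asIso t).symm (Iso.refl _) (Iso.refl _) (Iso.refl _) (by simp [t]) (by simp [t]) (by simp) (by simp)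
  -- the map to X
  obtain ⟨φ, hφ⟩ := cov_glue hbz hR hq' (fun z => (A z).φ) (fun z z' t s h₁ h₂ => by
    have e : s = (M t).top := (hq' z').hom_ext (h₁.trans (hqn' t).symm) (h₂.trans (hcM t).w.symm)
    rw [e, (M t).wφ])
  have heqv : act ≫ φ = (G ◁ φ) ≫ aX.act := cov_ext hbz hR (hGq G) fun z => by
    rw [← Category.assoc, hact, Category.assoc, hφ, (A z).eqv, ← MonoidalCategory.whiskerLeft_comp_assoc, hφ]
  have hloc : AlgSt.HasSecLoc Scheme.fppfPrecoverage π.left := by
    refine hasSecLoc_of_secSieve_mem ((J S).transitive hR _ fun V k hk => ?_)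
    refine GrothendieckTopology.superset_covering _ ?_ (secSieve_mem_of_hasSecLoc (A ⟨Over.mk k, hk⟩).loc)
    rintro W l ⟨s, hs⟩
    refine ⟨s ≫ q ⟨Over.mk k, hk⟩, ?_⟩
    show (s ≫ q _) ≫ π0 = _
    rw [Category.assoc, (hq _).w, ← Category.assoc]
    exact (congrArg (· ≫ (yon S).map k) hs).trans ((yon S).map_comp l k).symm
  let a : QS :=
    { base := U, b := bU, P := P, act := ⟨act, hone, hmul⟩, π := π, cart := hcart, loc := hloc, φ := φ,
      eqv := heqv }
  let c' : ∀ z, A z ⟶ a := fun z => ⟨z.obj.hom, hbz z, q' z, (hact z).symm, hq' z, hφ z⟩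
  refine ⟨a, rfl, fun z => j z ≫ c' z, fun z => ?_, fun z z' t => ?_⟩
  · show (j z ≫ c' z).base = _
    rw [AlgSt.SpQuotObj.comp_base, hj₁]
    simp [c']
  · rw [← Category.assoc, hjM, Category.assoc]
    congr 1
    exact AlgSt.SpQuotObj.hom_ext ((congrArg (· ≫ z'.obj.hom) (hM₁ t)).trans (Over.w t.hom)) (hqn' t)

end Obj

variable (G aX) in
/-- Sheaf torsors form a stack for the fppf topology. -/
theorem isStack_spQuotSt : Stk.IsStack (J S) QSt :=
  ⟨isFibGrpd_spQuotSt G aX, fun _U _R hR => Groth.StkBase.isStackFor_mk (isFibGrpd_spQuotSt G aX)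
    (homExt_spQuotSt hR) (homGlue_spQuotSt hR) (objGlue_spQuotSt hR)⟩

end

end Groth.QuotStk
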