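import Groth.Agent.QuotStk.QuotFib
import Groth.Agent.StkBase.FibProd
import Groth.Agent.AlgSpBasic.LocP
import Groth.Agent.AlgSpBasic.Points

/-!
# The fibres of the canonical map to a quotient stack
-/

set_option autoImplicit false
set_option backward.isDefEq.respectTransparency false
set_option backward.isDefEq.respectTransparency.types false
universe u

open CategoryTheory CategoryTheory.Limits AlgebraicGeometry Opposite AlgSp MonoidalCategory CartesianMonoidalCategory
open CategoryTheory.MonObj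
open Groth.StkBase (IsVert idObj toId map_map fpMk fpHom fpObjIso fp_isVert fp_hom_ext exists_vert_iso_of_lifts
  hom_eq_of_comp_eq)

namespace Groth.QuotStk

noncomputable section

variable {S : Scheme.{u}} {G X : Over S} [GrpObj G] {aX : AlgGrp.Action G X}

local notation "Q₀" => AlgSt.QuotSt Scheme.fppfPrecoverage G aX

variable (aX) in
/-- The canonical atlas. -/
abbrev atlas : FibCat.overCat X ⥤ᵇ Q₀ :=
  BasedFunctor.comp (AlgSt.ofOverCat X) (AlgSt.quotMap Scheme.fppfPrecoverage G aX)

variable {U : Over S} (y : FibCat.overCat U ⥤ᵇ AlgSt.QuotSt Scheme.fppfPrecoverage G aX)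

/-- The torsor classified by `y`. -/
abbrev torsor : AlgSt.QuotObj Scheme.fppfPrecoverage G aX := y.obj (idObj U)

theorem torsor_base : (torsor y).base = U := y.w_obj (idObj U)

/-- Its structure map to `U`. -/
def torsorπ : (torsor y).P ⟶ U := (torsor y).π ≫ eqToHom (torsor_base y)

theorem map_toId_base (g : (FibCat.overCat U).obj) :
    (y.map (toId g)).base = eqToHom (y.w_obj g) ≫ g.hom ≫ eqToHom (torsor_base y).symm :=
  map_map y (toId g)

theorem exists_fibre_iso {T : Over S} (σ : T ⟶ (torsor y).P) :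
    ∃ i : y.obj (Over.mk (σ ≫ torsorπ y)) ≅ trivT aX (σ ≫ (torsor y).φ), IsVert (Q₀).p i.hom ∧
      i.hom ≫ homOfPt (torsor y) σ = y.map (toId (Over.mk (σ ≫ torsorπ y))) := by
  refine exists_vert_iso_of_lifts (isFibGrpd_quotSt aX) _ _ (y.w_obj (Over.mk (σ ≫ torsorπ y))) ?_
  refine (map_toId_base y _).trans ?_
  show _ = eqToHom _ ≫ σ ≫ (torsor y).π
  simp [torsorπ]

/-- The isomorphism of an object of the fibre. -/
def fibreIso {T : Over S} (σ : T ⟶ (torsor y).P) :
    y.obj (Over.mk (σ ≫ torsorπ y)) ≅ trivT aX (σ ≫ (torsor y).φ) := (exists_fibre_iso y σ).choose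

theorem fibreIso_vert {T : Over S} (σ : T ⟶ (torsor y).P) : IsVert (Q₀).p (fibreIso y σ).hom :=
  (exists_fibre_iso y σ).choose_spec.1

theorem fibreIso_comp {T : Over S} (σ : T ⟶ (torsor y).P) :
    (fibreIso y σ).hom ≫ homOfPt (torsor y) σ = y.map (toId (Over.mk (σ ≫ torsorπ y))) :=
  (exists_fibre_iso y σ).choose_spec.2

theorem toId_comp_map {a b : (FibCat.overCat U).obj} (f : a ⟶ b) :
    y.map f ≫ y.map (toId b) = y.map (toId a) :=
  (y.toFunctor.map_comp _ _).symm.trans (congrArg y.map (Groth.StkBase.toId_naturality f))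

theorem fibre_w {T T' : Over S} (σ : T ⟶ (torsor y).P) (σ' : T' ⟶ (torsor y).P) (k : T' ⟶ T)
    (m : Over.mk (σ' ≫ torsorπ y) ⟶ Over.mk (σ ≫ torsorπ y)) (hm : m.left = k)
    (m' : Over.mk (σ' ≫ (torsor y).φ) ⟶ Over.mk (σ ≫ (torsor y).φ)) (hm' : m'.left = k) (hk : k ≫ σ = σ') :
    y.map m ≫ (fibreIso y σ).hom = (fibreIso y σ').hom ≫ (atlas aX).map m' := by
  have hv := (fibreIso_vert y σ).map_eq
  have hv' := (fibreIso_vert y σ').map_eq
  subst hm
  apply hom_eq_of_comp_eq (isFibGrpd_quotSt aX) (homOfPt (torsor y) σ)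
  · show (y.map m).base ≫ (fibreIso y σ).hom.base = (fibreIso y σ').hom.base ≫ m'.left
    refine ((congrArg₂ (· ≫ ·) (map_map y m) hv).trans ?_).trans (congrArg (· ≫ m'.left) hv').symm
    rw [hm']
    simp
    rfl
  · refine ((Category.assoc _ _ _).trans ((congrArg (y.map m ≫ ·) (fibreIso_comp y σ)).trans
      (toId_comp_map y m))).trans ((fibreIso_comp y σ').symm.trans ?_)
    refine (congrArg ((fibreIso y σ').hom ≫ ·) ?_).trans (Category.assoc _ _ _).symm
    refine hom_ext_of_ptOf ?_ ?_
    · show σ' ≫ (torsor y).π = m'.left ≫ σ ≫ (torsor y).π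
      rw [hm', ← Category.assoc, hk]
    · rw [ptOf_homOfPt]
      show σ' = unitSec G T' ≫ (G ◁ m'.left) ≫ (G ◁ σ) ≫ (torsor y).act.act
      rw [← Category.assoc]
      refine Eq.trans ?_ ((congrArg (· ≫ _) (unitSec_naturality m'.left)).trans (Category.assoc _ _ _)).symm
      rw [unitSec_act, hm', hk]

/-- The scheme `P` maps to the fibre. -/
def fibreFunctor : AlgSt.ofSch (torsor y).P ⥤ᵇ FibCat.fp y (atlas aX) where
  toFunctor :=
    { obj := fun a => fpMk (F := y) (G := atlas aX) (Over.mk (a.sec.down ≫ torsorπ y))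
        (Over.mk (a.sec.down ≫ (torsor y).φ)) (fibreIso y a.sec.down) (fibreIso_vert y a.sec.down)
      map := fun {a b} f =>
        have hk : f.hom ≫ b.sec.down = a.sec.down := congrArg ULift.down f.map_sec
        fpHom (Over.homMk f.hom (by
            show f.hom ≫ b.sec.down ≫ torsorπ y = a.sec.down ≫ torsorπ y
            rw [← Category.assoc, hk]))
          (Over.homMk f.hom (by
            show f.hom ≫ b.sec.down ≫ (torsor y).φ = a.sec.down ≫ (torsor y).φ
            rw [← Category.assoc, hk]))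
          (fibre_w y b.sec.down a.sec.down f.hom _ rfl _ rfl hk)
      map_id := fun a => fp_hom_ext (Over.OverMorphism.ext rfl) (Over.OverMorphism.ext rfl)
      map_comp := fun f g => fp_hom_ext (Over.OverMorphism.ext rfl) (Over.OverMorphism.ext rfl) }
  w := rfl

theorem isEquivOver_fibreFunctor : FibCat.IsEquivOver (fibreFunctor y) := by
  refine Groth.StkBase.isEquivOver_of_fullyFaithful _ ⟨fun {a b} m => ?_⟩ ⟨fun {a b} f g h => ?_⟩ fun z => ?_
  · let k : a.base ⟶ b.base := m.hom.fst.left
    have hs : m.hom.snd.left = k := (Groth.StkBase.fp_map_snd m).trans (by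
      show eqToHom _ ≫ k ≫ eqToHom _ = k
      simp)
    have w : y.map m.hom.fst ≫ (fibreIso y b.sec.down).hom =
        (fibreIso y a.sec.down).hom ≫ (atlas aX).map m.hom.snd := m.hom.w
    have e : homOfPt (torsor y) a.sec.down = (atlas aX).map m.hom.snd ≫ homOfPt (torsor y) b.sec.down := by
      rw [← cancel_epi (fibreIso y a.sec.down).hom, fibreIso_comp, ← Category.assoc, ← w, Category.assoc,
        fibreIso_comp]
      exact (toId_comp_map y m.hom.fst).symm
    have hk : k ≫ b.sec.down = a.sec.down := by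
      have e' := congrArg ptOf e
      rw [ptOf_homOfPt] at e'
      refine (e'.trans ?_).symm
      show unitSec G a.base ≫ (G ◁ m.hom.snd.left) ≫ (G ◁ b.sec.down) ≫ (torsor y).act.act = _
      rw [← Category.assoc]
      exact ((congrArg (· ≫ _) (unitSec_naturality m.hom.snd.left)).trans (Category.assoc _ _ _)).trans
        ((congrArg (m.hom.snd.left ≫ ·) (unitSec_act _ _)).trans (congrArg (· ≫ b.sec.down) hs))
    exact ⟨⟨k, congrArg ULift.up hk⟩, fp_hom_ext (Over.OverMorphism.ext rfl) (Over.OverMorphism.ext hs.symm)⟩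
  · exact Stk.EltObj.hom_ext (congrArg (fun m => m.hom.fst.left) h)
  · have hz : z.obj.snd.left = z.obj.fst.left := Groth.StkBase.fp_p_snd z
    let h : trivT aX z.obj.snd.hom ⟶ torsor y := z.obj.iso.inv ≫ y.map (toId z.obj.fst)
    let σ := ptOf h
    have hbase : h.base = eqToHom hz ≫ z.obj.fst.hom ≫ eqToHom (torsor_base y).symm := by
      show z.obj.iso.inv.base ≫ (y.map (toId z.obj.fst)).base = _
      rw [map_toId_base]
      have : z.obj.iso.inv.base = eqToHom _ := (Groth.StkBase.IsVert.inv (fp_isVert z)).map_eq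
      rw [this]
      simp
    have e₁ : σ ≫ torsorπ y = eqToHom hz ≫ z.obj.fst.hom := by
      rw [torsorπ, ← Category.assoc, ptOf_π, hbase]
      simp
    let a : (AlgSt.ofSch (torsor y).P).obj := ⟨z.obj.snd.left, ⟨σ⟩⟩
    let ifst : Over.mk (σ ≫ torsorπ y) ≅ z.obj.fst := Over.isoMk (eqToIso hz) e₁.symm
    let isnd : Over.mk (σ ≫ (torsor y).φ) ≅ z.obj.snd := Over.isoMk (Iso.refl _) (by
      show 𝟙 _ ≫ z.obj.snd.hom = σ ≫ (torsor y).φ
      rw [Category.id_comp]
      exact (ptOf_φ h).symm)
    have hw : y.map ifst.hom ≫ z.obj.iso.hom = (fibreIso y σ).hom ≫ (atlas aX).map isnd.hom := by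
      apply hom_eq_of_comp_eq (isFibGrpd_quotSt aX) h
      · show (y.map ifst.hom).base ≫ z.obj.iso.hom.base = (fibreIso y σ).hom.base ≫ isnd.hom.left
        refine ((congrArg₂ (· ≫ ·) (map_map y ifst.hom) (fp_isVert z).map_eq).trans ?_).trans
          (congrArg (· ≫ isnd.hom.left) (fibreIso_vert y σ).map_eq).symm
        simp [ifst, isnd]
        rw [show (FibCat.overCat U).p.map (Over.isoMk (eqToIso hz) e₁.symm : Over.mk (σ ≫ torsorπ y) ≅ z.obj.fst).hom =
          eqToHom hz from rfl]
        simp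
      · refine ((Category.assoc _ _ _).trans (congrArg (_ ≫ ·) (z.obj.iso.hom_inv_id_assoc _))).trans
          ((toId_comp_map y ifst.hom).trans ((fibreIso_comp y σ).symm.trans ?_))
        refine (congrArg ((fibreIso y σ).hom ≫ ·) ?_).trans (Category.assoc _ _ _).symm
        refine hom_ext_of_ptOf ?_ ?_
        · show σ ≫ (torsor y).π = 𝟙 _ ≫ h.base
          rw [Category.id_comp]
          exact ptOf_π h
        · rw [ptOf_homOfPt]
          show σ = unitSec G z.obj.snd.left ≫ (G ◁ (𝟙 _)) ≫ h.top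
          rw [MonoidalCategory.whiskerLeft_id, Category.id_comp]
          rfl
    refine ⟨a, fpObjIso ifst isnd hw, hz, ?_⟩
    show ifst.hom.left = _
    simp [ifst]

theorem spMapOfOver_fibreFunctor :
    AlgSt.spMapOfOver (BasedFunctor.comp (fibreFunctor y) (FibCat.fpFst y (atlas aX))) = (yon S).map (torsorπ y) := by
  apply Sheaf.hom_ext
  ext T x
  refine (AlgSt.spMapOfOver_app _ T.unop x).trans (ULift.ext _ _ ?_)
  show 𝟙 _ ≫ x.down ≫ torsorπ y = x.down ≫ torsorπ y
  rw [Category.id_comp]

theorem repByAlgSpWith_atlas (P : MorphismProperty (Sp S))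
    (h : ∀ (A : AlgSt.QuotObj Scheme.fppfPrecoverage G aX) (U : Over S) (e : A.base = U),
      P ((yon S).map (A.π ≫ eqToHom e))) : AlgSt.RepByAlgSpWith P (atlas aX) :=
  fun U y => ⟨⟨(yon S).obj (torsor y).P, IsAlgSpace.yon_obj _⟩, fibreFunctor y, isEquivOver_fibreFunctor y, by
    rw [spMapOfOver_fibreFunctor]
    exact h (torsor y) U (torsor_base y)⟩

/-- The canonical map to a quotient stack has every property of the group which is local on the target. -/
theorem repByAlgSpWith_locP_atlas (P : MorphismProperty Scheme.{u}) [P.IsLocalAtTarget Scheme.fppfPrecoverage] [Groth.AlgSpBasic.EtaleLocal P] (hG : P G.hom) :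
    AlgSt.RepByAlgSpWith (LocP P) (atlas aX) :=
  repByAlgSpWith_atlas _ fun A U e => by
    subst e
    rw [eqToHom_refl, Category.comp_id]
    exact Groth.AlgSpBasic.locP_of_repWith ((repWith_yon_map_iff _ _).2 (prop_π P hG A))

variable (aX) in
theorem repByAlgSpWith_surjective_atlas : AlgSt.RepByAlgSpWith IsSurjectiveMor (atlas aX) :=
  repByAlgSpWith_atlas _ fun A U e => by
    subst e
    rw [eqToHom_refl, Category.comp_id]
    exact Groth.AlgSpBasic.surjective_map_of_repWith
      ((repWith_yon_map_iff _ _).2 (prop_π @Surjective surjective_hom A))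

instance flat_isLocalAtTarget_fppf : MorphismProperty.IsLocalAtTarget @Flat.{u} Scheme.fppfPrecoverage :=
  Groth.AlgSpBasic.isLocalAtTarget_fppf _

end

end Groth.QuotStk
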