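import Groth.Agent.QuotStk.SchEmb
import Groth.Agent.StkBase.Stack

/-!
# Quotient stacks by an affine group scheme
-/

set_option autoImplicit false
set_option backward.isDefEq.respectTransparency false
set_option backward.isDefEq.respectTransparency.types false
universe u

open CategoryTheory CategoryTheory.Limits AlgebraicGeometry Opposite AlgSp MonoidalCategory CartesianMonoidalCategory
open CategoryTheory.MonObj
open Groth.StkBase (IsVert)
open scoped CategoryTheory.Obj

namespace Groth.QuotStk

noncomputable section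

variable {S : Scheme.{u}} {G X : Over S} [GrpObj G] (aX : AlgGrp.Action G X)

set_option quotPrecheck false in
local notation "FG" => (emb S).obj G
local notation "Q₀" => AlgSt.QuotSt Scheme.fppfPrecoverage G aX
set_option quotPrecheck false in
local notation "Q₁" => AlgSt.SpQuotSt Scheme.fppfPrecoverage FG (embAction aX)

variable {aX}

theorem hasSecLoc_emb_iff {T P : Over S} (π : P ⟶ T) :
    AlgSt.HasSecLoc Scheme.fppfPrecoverage ((yon S).map π) ↔
      NonAbH1.IsLocallyTrivialFor Scheme.fppfPrecoverage (Over.mk π.left : Over T.left) := by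
  refine exists_congr fun R => and_congr Iff.rfl (forall_congr' fun V => forall_congr' fun f => imp_congr_right fun _ => ?_)
  constructor
  · rintro ⟨s, hs⟩
    obtain ⟨s, rfl⟩ := (yon S).map_surjective s
    refine ⟨s.left, ?_⟩
    rw [← Functor.map_comp] at hs
    exact congrArg CommaMorphism.left ((yon S).map_injective hs)
  · rintro ⟨s, hs⟩
    have hs' : s ≫ π.left = f := hs
    refine ⟨(yon S).map (Over.homMk s ?_), ?_⟩
    · show s ≫ P.hom = f ≫ T.hom
      rw [← Over.w π, ← Category.assoc, hs']
    · rw [← Functor.map_comp]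
      exact congrArg _ (Over.OverMorphism.ext hs')

/-- A scheme torsor as a sheaf torsor. -/
def embObj (A : AlgSt.QuotObj Scheme.fppfPrecoverage G aX) :
    AlgSt.SpQuotObj Scheme.fppfPrecoverage FG (embAction aX) where
  base := A.base
  b := (yon S).map (Over.mkIdTerminal.from A.base)
  P := (emb S).obj A.P
  act := embAction A.act
  π := (emb S).map A.π
  cart := (embAct_cart_iff _ _).2 A.cart
  loc := (hasSecLoc_emb_iff A.π).2 A.loc
  φ := (emb S).map A.φ
  eqv := (embAct_eqv _ _ _).2 A.eqv

theorem bHom_eq_map {T T' : Over S} (f : T ⟶ T')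
    (w : (yon S).map f ≫ (yon S).map (Over.mkIdTerminal.from T') = (yon S).map (Over.mkIdTerminal.from T)) :
    AlgSt.bHom f w = (emb S).map f := rfl

variable (aX) in
/-- Scheme torsors as sheaf torsors. -/
def embQuot : Q₀ ⥤ᵇ Q₁ where
  toFunctor :=
    { obj := fun A => embObj A
      map := fun {A A'} f =>
        { base := f.base
          wb := (subsingleton_hom_B0 _).elim _ _
          top := (emb S).map f.top
          eqv := (embAct_eqv _ _ _).2 f.eqv
          cart := f.cart.map (emb S)
          wφ := by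
            show (emb S).map f.top ≫ (emb S).map A'.φ = (emb S).map A.φ
            rw [← Functor.map_comp, f.wφ] }
      map_id := fun A => AlgSt.SpQuotObj.hom_ext rfl ((emb S).map_id _)
      map_comp := fun f g => AlgSt.SpQuotObj.hom_ext rfl ((emb S).map_comp _ _) }
  w := rfl

theorem embQuot_full : (embQuot aX).toFunctor.Full := ⟨fun {A A'} h => by
  obtain ⟨t, ht⟩ := emb_hom_surjective (Y := A.P) (Y' := A'.P) h.top
  have hcart := h.cart
  have heqv := h.eqv
  have hwφ := h.wφ
  change IsPullback h.top ((emb S).map A.π) ((emb S).map A'.π) ((emb S).map h.base) at hcart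
  change embAct A.act.act ≫ h.top = (FG ◁ h.top) ≫ embAct A'.act.act at heqv
  change h.top ≫ (emb S).map A'.φ = (emb S).map A.φ at hwφ
  rw [← ht] at hcart heqv hwφ
  rw [← Functor.map_comp] at hwφ
  exact ⟨⟨h.base, t, (embAct_eqv _ _ _).1 heqv,
    IsPullback.of_map (emb S) ((emb S).map_injective (by rw [Functor.map_comp, Functor.map_comp, hcart.w])) hcart,
    (emb S).map_injective hwφ⟩, AlgSt.SpQuotObj.hom_ext rfl ht⟩⟩

theorem embQuot_faithful : (embQuot aX).toFunctor.Faithful := ⟨fun {A A'} f g h =>
  AlgSt.QuotObj.hom_ext (congrArg (fun m => m.base) h) ((emb S).map_injective (congrArg (fun m => m.top) h))⟩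

/-- A sheaf torsor under an affine group scheme is a scheme. -/
theorem exists_iso_emb_of_torsor [IsAffineHom G.hom] {T : Over S} {P : Over (B0 S)} {a : GAction FG P}
    {π : P ⟶ (emb S).obj T} (hc : IsPullback a.act (snd FG P) π π)
    (hl : AlgSt.HasSecLoc Scheme.fppfPrecoverage π.left) :
    ∃ W : Over S, Nonempty ((emb S).obj W ≅ P) := by
  obtain ⟨W, i, e, -, -⟩ := exists_affineHom_of_locally (P := P.left) π.left (secSieve_mem_of_hasSecLoc hl)
    fun V k hk => by
      obtain ⟨s, hs⟩ := hk
      let σ : (emb S).obj V ⟶ P := Over.homMk s ((subsingleton_hom_B0 V).elim _ _)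
      have hσ : σ ≫ π = (emb S).map k := Over.OverMorphism.ext hs
      have h₁ : IsPullback ((FG ◁ σ) ≫ a.act) (snd FG ((emb S).obj V)) π (σ ≫ π) :=
        (AlgSt.isPullback_whiskerLeft' (G := FG) σ).paste_horiz hc
      rw [hσ] at h₁
      have h₂ := h₁.of_iso (Functor.Monoidal.μIso (emb S) G V) (Iso.refl _) (Iso.refl _) (Iso.refl _)
        (fst' := (Functor.Monoidal.μIso (emb S) G V).inv ≫ (FG ◁ σ) ≫ a.act)
        (snd' := (emb S).map (snd G V)) (f' := π) (g' := (emb S).map k)
        (by simp) (by simp) (by simp) (by simp)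
      refine ⟨G ⊗ V, snd G V, _, isPullback_left' h₂, ?_⟩
      exact MorphismProperty.of_isPullback ((AlgSt.isPullback_fst_snd G V).map (Over.forget S))
        (show IsAffineHom (toUnit G).left from by
          rw [show (toUnit G).left = G.hom from (Category.comp_id _).symm.trans (Over.w (toUnit G))]
          infer_instance)
  exact ⟨W, ⟨Over.isoMk e ((subsingleton_hom_B0 W).elim _ _)⟩⟩

theorem isEquivOver_embQuot [IsAffineHom G.hom] : FibCat.IsEquivOver (embQuot aX) := by
  refine Groth.StkBase.isEquivOver_of_fullyFaithful _ embQuot_full embQuot_faithful fun A => ?_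
  obtain ⟨T, b, P, act, π, cart, loc, φ, eqv⟩ := A
  obtain rfl : b = (yon S).map (Over.mkIdTerminal.from T) := (subsingleton_hom_B0 T).elim _ _
  obtain ⟨W, ⟨E⟩⟩ := exists_iso_emb_of_torsor (π := π) cart loc
  obtain ⟨i, hi⟩ := emb_hom_surjective (show (emb S).obj W ⟶ (emb S).obj T from E.hom ≫ π)
  obtain ⟨f, hf⟩ := emb_hom_surjective (show (emb S).obj W ⟶ (emb S).obj X from E.hom ≫ φ)
  obtain ⟨c, hc⟩ := embAct_surjective ((FG ◁ E.hom) ≫ act.act ≫ E.inv)
  have hone : (η[G] ▷ W) ≫ c = (λ_ W).hom := by
    rw [← embAct_one_iff, hc, ← Category.assoc, ← whisker_exchange, Category.assoc, ← Category.assoc (η[FG] ▷ P),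
      act.one_act, ← Category.assoc, leftUnitor_naturality, Category.assoc, E.hom_inv_id, Category.comp_id]
  have hmul : (μ[G] ▷ W) ≫ c = (α_ G G W).hom ≫ (G ◁ c) ≫ c := by
    rw [← embAct_mul_iff, hc, ← Category.assoc, ← whisker_exchange, Category.assoc, ← Category.assoc (μ[FG] ▷ P),
      act.mul_act]
    simp only [MonoidalCategory.whiskerLeft_comp, Category.assoc]
    rw [← MonoidalCategory.whiskerLeft_comp_assoc FG E.inv E.hom, E.inv_hom_id, MonoidalCategory.whiskerLeft_id,
      Category.id_comp, associator_naturality_right_assoc]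
  have hcart : IsPullback c (snd G W) i i := by
    rw [← embAct_cart_iff, hc, hi]
    refine cart.of_iso ((asIso (FG ◁ E.hom)).symm) E.symm E.symm (Iso.refl _) ?_ ?_ ?_ ?_
    · simp
    · rw [Iso.symm_hom, Iso.symm_hom, asIso_inv, IsIso.eq_inv_comp, ← Category.assoc, whiskerLeft_snd, Category.assoc,
        E.hom_inv_id, Category.comp_id]
    · simp
    · simp
  have heqv : c ≫ f = (G ◁ f) ≫ aX.act := by
    rw [← embAct_eqv, hc, hf, MonoidalCategory.whiskerLeft_comp, Category.assoc, Category.assoc, Category.assoc]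
    refine congrArg ((FG ◁ E.hom) ≫ ·) ?_
    rw [E.inv_hom_id_assoc]
    exact eqv
  have hloc : NonAbH1.IsLocallyTrivialFor Scheme.fppfPrecoverage (Over.mk i.left : Over T.left) := by
    rw [← hasSecLoc_emb_iff]
    obtain ⟨R, hR, hs⟩ := loc
    refine ⟨R, hR, fun V g hg => ?_⟩
    obtain ⟨s, hs'⟩ := hs g hg
    refine ⟨s ≫ E.inv.left, ?_⟩
    have := congrArg CommaMorphism.left hi
    change (yon S).map i = E.hom.left ≫ π.left at this
    rw [this, Category.assoc, ← Category.assoc E.inv.left, ← Over.comp_left, E.inv_hom_id]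
    simpa using hs'
  let A₀ : AlgSt.QuotObj Scheme.fppfPrecoverage G aX :=
    ⟨T, W, ⟨c, hone, hmul⟩, i, hcart, hloc, f, heqv⟩
  let A₁ : AlgSt.SpQuotObj Scheme.fppfPrecoverage FG (embAction aX) :=
    ⟨T, _, P, act, π, cart, loc, φ, eqv⟩
  have hiso : ∀ w : (yon S).map (𝟙 T) ≫ (yon S).map (Over.mkIdTerminal.from T) =
      (yon S).map (Over.mkIdTerminal.from T), IsIso (AlgSt.bHom (𝟙 T) w) := fun w => by
    rw [AlgSt.bHom_id]; infer_instance
  let h : embObj A₀ ⟶ A₁ :=
    { base := 𝟙 T
      wb := (subsingleton_hom_B0 _).elim _ _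
      top := E.hom
      eqv := by
        show embAct c ≫ E.hom = _
        rw [hc, Category.assoc, Category.assoc, E.inv_hom_id, Category.comp_id]
      cart := @IsPullback.of_horiz_isIso _ _ _ _ _ _ _ _ _ _ inferInstance (hiso _) ⟨by
        show E.hom ≫ π = (emb S).map i ≫ _
        rw [hi]
        refine (Category.comp_id _).symm.trans (congrArg ((E.hom ≫ π) ≫ ·) ?_)
        exact Over.OverMorphism.ext ((yon S).map_id T).symm⟩
      wφ := hf.symm }
  have hv : IsVert (Q₁).p h := ⟨rfl, rfl⟩
  have := hv.isIso (isFibGrpd_spQuotSt _ _)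
  exact ⟨A₀, asIso h, hv⟩

variable (aX) in
/-- The quotient stack of an affine group scheme is a stack. -/
theorem isStack_quotSt [IsAffineHom G.hom] : Stk.IsStack (J S) Q₀ :=
  (Groth.StkBase.isStack_iff_of_isEquivOver (J S) isEquivOver_embQuot).2 (isStack_spQuotSt _ _)

end

end Groth.QuotStk
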