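import Groth.Agent.QuotStk.QuotStStack
import Groth.Agent.StkBase.Yoneda

/-!
# The quotient category of scheme torsors is fibred in groupoids; morphisms from trivial torsors
-/

set_option autoImplicit false
set_option backward.isDefEq.respectTransparency false
set_option backward.isDefEq.respectTransparency.types false
universe u

open CategoryTheory CategoryTheory.Limits AlgebraicGeometry Opposite AlgSp MonoidalCategory CartesianMonoidalCategory
open CategoryTheory.MonObj
open Groth.StkBase (IsVert)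
open scoped CategoryTheory.Obj

namespace Groth.QuotStk

noncomputable section

variable {S : Scheme.{u}} {G X : Over S} [GrpObj G] {aX : AlgGrp.Action G X}

local notation "Q₀" => AlgSt.QuotSt Scheme.fppfPrecoverage G aX
local notation "QO" => AlgSt.QuotObj Scheme.fppfPrecoverage G aX

theorem exists_pullQuotObj (A : QO) {V : Over S} (f : V ⟶ A.base) :
    ∃ (A' : QO) (l : A' ⟶ A) (h : A'.base = V), l.base = eqToHom h ≫ f := by
  let P := pullback A.π f
  let q : P ⟶ A.P := pullback.fst _ _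
  let π : P ⟶ V := pullback.snd _ _
  have sq : IsPullback q π A.π f := IsPullback.of_hasPullback _ _
  have hw : ((G ◁ q) ≫ A.act.act) ≫ A.π = (snd G P ≫ π) ≫ f := by
    rw [Category.assoc, A.cart.w, ← Category.assoc, whiskerLeft_snd, Category.assoc, sq.w, Category.assoc]
  let a : G ⊗ P ⟶ P := sq.lift _ _ hw
  have ha₁ : a ≫ q = (G ◁ q) ≫ A.act.act := sq.lift_fst _ _ _
  have ha₂ : a ≫ π = snd G P ≫ π := sq.lift_snd _ _ _
  have hone : (η[G] ▷ P) ≫ a = (λ_ P).hom := by
    apply sq.hom_ext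
    · rw [Category.assoc, ha₁, ← Category.assoc, ← whisker_exchange, Category.assoc, A.act.one_act,
        leftUnitor_naturality]
    · rw [Category.assoc, ha₂, whiskerRight_snd_assoc, leftUnitor_hom]
  have hmul : (μ[G] ▷ P) ≫ a = (α_ G G P).hom ≫ (G ◁ a) ≫ a := by
    apply sq.hom_ext
    · rw [Category.assoc, ha₁, ← Category.assoc, ← whisker_exchange, Category.assoc, A.act.mul_act,
        Category.assoc, Category.assoc, ha₁, ← MonoidalCategory.whiskerLeft_comp_assoc, ha₁,
        MonoidalCategory.whiskerLeft_comp, Category.assoc, ← Category.assoc, associator_naturality_right,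
        Category.assoc]
    · simp only [Category.assoc, ha₂, whiskerRight_snd_assoc, whiskerLeft_snd_assoc,
        associator_hom_snd_snd_assoc]
  have hcart : IsPullback a (snd G P) π π := by
    refine IsPullback.of_right (h₁₂ := q) (h₂₂ := f) ?_ ha₂ sq
    rw [ha₁, ← sq.w]
    exact (AlgSt.isPullback_whiskerLeft (G := G) q).paste_horiz A.cart
  have hloc : NonAbH1.IsLocallyTrivialFor Scheme.fppfPrecoverage (Over.mk π.left : Over V.left) :=
    (hasSecLoc_emb_iff π).1 (hasSecLoc_of_secSieve_mem (GrothendieckTopology.superset_covering _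
      (secSieve_pullback_le (sq.map (yon S)))
      ((J S).pullback_stable f (secSieve_mem_of_hasSecLoc ((hasSecLoc_emb_iff A.π).2 A.loc)))))
  have heqv : a ≫ q ≫ A.φ = (G ◁ (q ≫ A.φ)) ≫ aX.act := by
    rw [← Category.assoc, ha₁, Category.assoc, A.eqv, ← MonoidalCategory.whiskerLeft_comp_assoc]
  exact ⟨⟨V, P, ⟨a, hone, hmul⟩, π, hcart, hloc, q ≫ A.φ, heqv⟩, ⟨f, q, ha₁, sq, rfl⟩, rfl,
    (Category.id_comp _).symm⟩

/-- Morphisms of scheme torsors are cartesian. -/
theorem existsUnique_quotHom {A A' A'' : QO} (φ : A' ⟶ A) (ψ : A'' ⟶ A) (g : A''.base ⟶ A'.base)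
    (hg : g ≫ φ.base = ψ.base) : ∃! χ : A'' ⟶ A', χ.base = g ∧ χ ≫ φ = ψ := by
  let E := embQuot aX
  have := embQuot_full (aX := aX)
  have := embQuot_faithful (aX := aX)
  obtain ⟨χ, ⟨h₁, h₂⟩, hu⟩ := existsUnique_hom (E.map φ) (E.map ψ) g hg
  obtain ⟨χ, rfl⟩ := E.toFunctor.map_surjective χ
  refine ⟨χ, ⟨h₁, E.toFunctor.map_injective ((E.toFunctor.map_comp _ _).trans h₂)⟩, ?_⟩
  rintro χ' ⟨h₁', h₂'⟩
  exact E.toFunctor.map_injective (hu (E.map χ')
    ⟨h₁', (E.toFunctor.map_comp _ _).symm.trans (congrArg (fun m => E.toFunctor.map m) h₂')⟩)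

variable (aX) in
theorem isFibGrpd_quotSt : FibCat.IsFibGrpd (Q₀).p :=
  Groth.StkBase.isFibGrpd_mk
    (fun {A} {V} f => by
      obtain ⟨A', l, h, hl⟩ := exists_pullQuotObj A f
      exact ⟨A', l, h, hl⟩)
    (fun {A'' A' A} φ ψ g hg => existsUnique_quotHom φ ψ g hg)

variable (G) in
/-- The unit section of a trivial torsor. -/
def unitSec (T : Over S) : T ⟶ G ⊗ T := lift (toUnit T ≫ η[G]) (𝟙 T)

theorem unitSec_snd (T : Over S) : unitSec G T ≫ snd G T = 𝟙 T := lift_snd _ _

theorem unitSec_naturality {T' T : Over S} (k : T' ⟶ T) : unitSec G T' ≫ (G ◁ k) = k ≫ unitSec G T := by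
  apply CartesianMonoidalCategory.hom_ext
  · simp [unitSec]
  · simp [unitSec]

theorem unitSec_act {Y T : Over S} (a : AlgGrp.Action G Y) (σ : T ⟶ Y) :
    unitSec G T ≫ (G ◁ σ) ≫ a.act = σ := by
  have e : unitSec G T ≫ (G ◁ σ) = lift (toUnit T) σ ≫ (η[G] ▷ Y) := by
    apply CartesianMonoidalCategory.hom_ext <;> simp [unitSec]
  rw [← Category.assoc, e, Category.assoc, a.one_act, leftUnitor_hom, lift_snd]

variable (aX) in
/-- The canonical functor, at an object of `(Sch/X)`. -/
abbrev trivT {T : Over S} (x : T ⟶ X) : QO :=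
  (AlgSt.quotMap Scheme.fppfPrecoverage G aX).obj ((AlgSt.ofOverCat X).obj (Over.mk x))

/-- The point of a torsor determined by a morphism from a trivial torsor. -/
def ptOf {T : Over S} {x : T ⟶ X} {A : QO} (h : trivT aX x ⟶ A) : T ⟶ A.P := unitSec G T ≫ h.top

theorem ptOf_π {T : Over S} {x : T ⟶ X} {A : QO} (h : trivT aX x ⟶ A) : ptOf h ≫ A.π = h.base := by
  have e : h.top ≫ A.π = snd G T ≫ h.base := h.cart.w
  rw [ptOf, Category.assoc, e, ← Category.assoc]
  exact (congrArg (· ≫ h.base) (unitSec_snd T)).trans (Category.id_comp _)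

theorem ptOf_φ {T : Over S} {x : T ⟶ X} {A : QO} (h : trivT aX x ⟶ A) : ptOf h ≫ A.φ = x := by
  have e : h.top ≫ A.φ = (G ◁ x) ≫ aX.act := h.wφ
  rw [ptOf, Category.assoc, e]
  exact unitSec_act aX x

theorem top_eq_of_ptOf {T : Over S} {x : T ⟶ X} {A : QO} (h : trivT aX x ⟶ A) :
    h.top = (G ◁ ptOf h) ≫ A.act.act := by
  have e : (AlgSt.leftMul G T).act ≫ h.top = (G ◁ h.top) ≫ A.act.act := h.eqv
  have hj : (G ◁ unitSec G T) ≫ (AlgSt.leftMul G T).act = 𝟙 _ := by
    apply CartesianMonoidalCategory.hom_ext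
    · simp only [unitSec, AlgSt.leftMul, Category.assoc, lift_fst, comp_mul, whiskerLeft_fst, whiskerLeft_snd_assoc,
        Category.id_comp]
      rw [← Category.assoc (snd G T), toUnit_unique (snd G T ≫ toUnit T) (toUnit _), ← Hom.one_def,
        _root_.mul_one]
    · simp only [unitSec, AlgSt.leftMul, Category.assoc, lift_snd, whiskerLeft_snd_assoc, Category.comp_id,
        Category.id_comp]
  have e₁ := congrArg ((G ◁ unitSec G T) ≫ ·) e
  simp only [← Category.assoc, hj, ← MonoidalCategory.whiskerLeft_comp] at e₁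
  exact (Category.id_comp _).symm.trans e₁

theorem hom_ext_of_ptOf {T : Over S} {x : T ⟶ X} {A : QO} {h h' : trivT aX x ⟶ A}
    (hb : h.base = h'.base) (hp : ptOf h = ptOf h') : h = h' :=
  AlgSt.QuotObj.hom_ext hb (by rw [top_eq_of_ptOf h, top_eq_of_ptOf h', hp])

/-- The morphism from a trivial torsor to a torsor given by a point. -/
def homOfPt {T : Over S} (A : QO) (σ : T ⟶ A.P) : trivT aX (σ ≫ A.φ) ⟶ A where
  base := σ ≫ A.π
  top := (G ◁ σ) ≫ A.act.act
  eqv := ((AlgSt.quotMap Scheme.fppfPrecoverage G A.act).obj ((AlgSt.ofOverCat A.P).obj (Over.mk σ))).eqv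
  cart := (AlgSt.isPullback_whiskerLeft (G := G) σ).paste_horiz A.cart
  wφ := by
    show ((G ◁ σ) ≫ A.act.act) ≫ A.φ = (G ◁ (σ ≫ A.φ)) ≫ aX.act
    rw [Category.assoc, A.eqv, MonoidalCategory.whiskerLeft_comp_assoc]

theorem ptOf_homOfPt {T : Over S} (A : QO) (σ : T ⟶ A.P) : ptOf (homOfPt A σ) = σ :=
  unitSec_act A.act σ

/-- The structure map of a torsor has every property of the group which is local on the target. -/
theorem prop_π (P : MorphismProperty Scheme.{u}) [P.IsStableUnderBaseChange]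
    [P.IsLocalAtTarget Scheme.fppfPrecoverage] (hG : P G.hom) (A : QO) : P A.π.left := by
  obtain ⟨R, hR, hs⟩ := A.loc
  refine MorphismProperty.IsLocalAtTarget.of_forall_pullbackSnd (P := P) hR ?_
  intro T i _ hi
  obtain ⟨s, hs⟩ := hs i hi
  have hs' : s ≫ A.π.left = i := hs
  let σ : Over.mk (i ≫ A.base.hom) ⟶ A.P := Over.homMk s (by
    show s ≫ A.P.hom = i ≫ A.base.hom
    rw [← Over.w A.π, ← Category.assoc, hs'])
  have hσ : (σ ≫ A.π).left = i := hs'
  have hG' : P (toUnit G).left := by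
    rw [show (toUnit G).left = G.hom from (Category.comp_id _).symm.trans (Over.w (toUnit G))]
    exact hG
  have hsnd : P (snd G (Over.mk (i ≫ A.base.hom))).left :=
    MorphismProperty.of_isPullback ((AlgSt.isPullback_fst_snd G _).map (Over.forget S)) hG'
  have hb := ((AlgSt.isPullback_whiskerLeft (G := G) σ).paste_horiz A.cart).map (Over.forget S)
  change IsPullback _ _ A.π.left (σ ≫ A.π).left at hb
  rw [hσ] at hb
  have : P.RespectsIso := MorphismProperty.IsStableUnderBaseChange.respectsIso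
  rw [← hb.isoPullback_inv_snd]
  exact (P.cancel_left_of_respectsIso hb.isoPullback.inv _).2 hsnd

theorem surjective_hom : Surjective G.hom :=
  ⟨fun s => ⟨(η[G] : 𝟙_ (Over S) ⟶ G).left s, by
    rw [← Scheme.Hom.comp_apply, Over.w (η[G] : 𝟙_ (Over S) ⟶ G)]
    rfl⟩⟩

end

end Groth.QuotStk
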