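import Groth.Agent.QuotStk.Glue
import Groth.Agent.AlgSpBasic.AffineDescent
import Groth.Agent.AlgSpBasic.Glue
import Groth.Agent.AlgSp2.AffineDescentLocal
import Mathlib.AlgebraicGeometry.Morphisms.UniversallyOpen

/-!
# Sheaves which are fppf-locally affine over a scheme are representable
-/

set_option autoImplicit false
set_option backward.isDefEq.respectTransparency false
set_option backward.isDefEq.respectTransparency.types false
universe u

open CategoryTheory CategoryTheory.Limits AlgebraicGeometry Opposite AlgSp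
open Groth.AlgSpBasic (yEquiv isPullback_of_lifts exists_cover_of_mem repWith_of_isPullback)
open Groth.AlgSp2 (sigmaIncl sigmaIncl_mem exists_glue sigma_hom_ext isPullback_sigmaIncl)

namespace Groth.QuotStk

noncomputable section

variable {S : Scheme.{u}}

/-- A square over a scheme is cartesian if it is so over the members of a covering sieve. -/
theorem isPullback_of_local {P' P Q : Sp S} {Z' : Over S} {R : Sieve Z'} (hR : R ∈ J S Z') {a : P' ⟶ P}
    {b : P' ⟶ (yon S).obj Z'} {π : P ⟶ Q} {f : (yon S).obj Z' ⟶ Q} (w : a ≫ π = b ≫ f)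
    (h : ∀ ⦃V : Over S⦄ (k : V ⟶ Z') (x : (yon S).obj V ⟶ P), R k → x ≫ π = (yon S).map k ≫ f →
      ∃! y : (yon S).obj V ⟶ P', y ≫ a = x ∧ y ≫ b = (yon S).map k) :
    IsPullback a b π f := by
  have hkey : ∀ (T : Over S) (x : (yon S).obj T ⟶ P) (c : T ⟶ Z') ⦃V : Over S⦄ (k : V ⟶ T),
      x ≫ π = (yon S).map c ≫ f → ((yon S).map k ≫ x) ≫ π = (yon S).map (k ≫ c) ≫ f := by
    intro T x c V k e
    rw [Category.assoc, e, ← Category.assoc, ← Functor.map_comp]
  refine isPullback_of_lifts w (fun T x c e => ?_) (fun T y y' e₁ e₂ => ?_)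
  · obtain ⟨c, rfl⟩ := (yon S).map_surjective c
    obtain ⟨y, hy⟩ := point_glue (Q := P') ((J S).pullback_stable c hR)
      (fun V k hk => (h (k ≫ c) _ hk (hkey T x c k e)).choose)
      (fun V V' k hk l hlk => by
        have s := (h (k ≫ c) _ hk (hkey T x c k e)).choose_spec.1
        refine ((h ((l ≫ k) ≫ c) _ hlk (hkey T x c (l ≫ k) e)).choose_spec.2 _ ⟨?_, ?_⟩).symm
        · rw [Category.assoc, s.1, ← Category.assoc, ← Functor.map_comp]
        · rw [Category.assoc, s.2, ← Functor.map_comp, Category.assoc])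
    refine ⟨y, point_ext ((J S).pullback_stable c hR) fun V k hk => ?_,
      point_ext ((J S).pullback_stable c hR) fun V k hk => ?_⟩
    · rw [← Category.assoc, hy k hk]
      exact (h (k ≫ c) _ hk (hkey T x c k e)).choose_spec.1.1
    · rw [← Category.assoc, hy k hk, ← Functor.map_comp]
      exact (h (k ≫ c) _ hk (hkey T x c k e)).choose_spec.1.2
  · obtain ⟨c, hc⟩ := (yon S).map_surjective (y ≫ b)
    have e : (y ≫ a) ≫ π = (yon S).map c ≫ f := by rw [Category.assoc, w, ← Category.assoc, hc]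
    refine point_ext ((J S).pullback_stable c hR) fun V k hk => ?_
    refine (h (k ≫ c) _ hk (hkey T (y ≫ a) c k e)).unique ⟨Category.assoc _ _ _, ?_⟩ ⟨?_, ?_⟩
    · rw [Category.assoc, ← hc, Functor.map_comp]
    · rw [Category.assoc, ← e₁]
    · rw [Category.assoc, ← e₂, ← hc, Functor.map_comp]

/-- A covering sieve of an affine scheme contains finitely many affine schemes covering it. -/
theorem exists_affine_members {Z : Over S} [IsAffine Z.left] {R : Sieve Z} (hR : R ∈ J S Z) :
    ∃ (ι : Type u) (_ : Finite ι) (W : ι → Over S) (c : ∀ i, W i ⟶ Z),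
      (∀ i, IsAffine (W i).left) ∧ (∀ i, R (c i)) ∧ (∀ i, Flat (c i).left) ∧
      (∀ i, LocallyOfFinitePresentation (c i).left) ∧ ∀ z : ↥Z.left, ∃ i, z ∈ Set.range (c i).left := by
  obtain ⟨C, hC, hR'⟩ := exists_cover_of_mem hR
  obtain ⟨ι, V, g, rfl⟩ := C.exists_eq_ofArrows
  obtain ⟨hsurj, hfl⟩ := (Scheme.ofArrows_mem_precoverage_iff _).1 hC
  choose i x hx using hsurj
  have hex : ∀ z : ↥Z.left, ∃ O : (V (i z)).Opens, IsAffineOpen O ∧ x z ∈ O := fun z => by
    obtain ⟨_, ⟨O, hO, rfl⟩, hxO, -⟩ :=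
      (V (i z)).isBasis_affineOpens.exists_subset_of_mem_open (Set.mem_univ (x z)) isOpen_univ
    exact ⟨O, hO, hxO⟩
  choose O hO hxO using hex
  let c₀ : ∀ z, (O z).toScheme ⟶ Z.left := fun z => (O z).ι ≫ g (i z)
  have hf : ∀ z, Flat (c₀ z) := fun z => by
    have := (hfl (i z)).1
    infer_instance
  have hp : ∀ z, LocallyOfFinitePresentation (c₀ z) := fun z => by
    have := (hfl (i z)).2
    infer_instance
  have hopen : ∀ z, IsOpen (Set.range (c₀ z)) := fun z => by
    have := hf z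
    have := hp z
    exact (c₀ z).isOpenMap.isOpen_range
  have hmem : ∀ z, z ∈ Set.range (c₀ z) := fun z => ⟨⟨x z, hxO z⟩, by
    show (g (i z)) ((O z).ι ⟨x z, hxO z⟩) = z
    exact hx z⟩
  obtain ⟨t, ht⟩ := isCompact_univ.elim_finite_subcover (fun z => Set.range (c₀ z)) hopen
    (fun z _ => Set.mem_iUnion.2 ⟨z, hmem z⟩)
  refine ⟨{z // z ∈ t}, inferInstance, fun z => Over.mk (c₀ z.1 ≫ Z.hom), fun z => Over.homMk (c₀ z.1),
    fun z => hO z.1, fun z => ?_, fun z => hf z.1, fun z => hp z.1, fun y => ?_⟩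
  · have := R.downward_closed (hR' _ ⟨i z.1⟩)
      (Over.homMk (O z.1).ι (Category.assoc _ _ _).symm : Over.mk (c₀ z.1 ≫ Z.hom) ⟶ Over.mk (g (i z.1) ≫ Z.hom))
    have e : (Over.homMk (O z.1).ι (Category.assoc _ _ _).symm :
        Over.mk (c₀ z.1 ≫ Z.hom) ⟶ Over.mk (g (i z.1) ≫ Z.hom)) ≫
        (Over.homMk (g (i z.1)) : Over.mk (g (i z.1) ≫ Z.hom) ⟶ Z) = Over.homMk (c₀ z.1) :=
      Over.OverMorphism.ext rfl
    rw [e] at this
    exact this
  · obtain ⟨z, hz, hy⟩ := Set.mem_iUnion₂.1 (ht (Set.mem_univ y))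
    exact ⟨⟨z, hz⟩, hy⟩

/-- A sheaf over an affine scheme which is affine over the members of a covering sieve is affine. -/
theorem exists_affine_of_locally {P : Sp S} {Z : Over S} [IsAffine Z.left] (π : P ⟶ (yon S).obj Z)
    {R : Sieve Z} (hR : R ∈ J S Z)
    (H : ∀ ⦃V : Over S⦄ (k : V ⟶ Z), R k → ∃ (W : Over S) (i : W ⟶ V) (fst : (yon S).obj W ⟶ P),
      IsPullback fst ((yon S).map i) π ((yon S).map k) ∧ IsAffineHom i.left) :
    ∃ (W : Over S) (i : W ⟶ Z) (e : (yon S).obj W ≅ P),
      IsAffine W.left ∧ e.hom ≫ π = (yon S).map i := by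
  obtain ⟨ι, _, W, c, hW, hcR, hfl, hlfp, hs⟩ := exists_affine_members hR
  choose V p vq sq hp using fun j => H (c j) (hcR j)
  have hV : ∀ j, IsAffine (V j).left := fun j => by
    have := hp j
    have := hW j
    exact isAffine_of_isAffineHom (p j).left
  have : IsAffine (AlgSp2.sigmaObj W).left := inferInstanceAs (IsAffine (∐ fun j => (W j).left))
  have : IsAffine (AlgSp2.sigmaObj V).left := inferInstanceAs (IsAffine (∐ fun j => (V j).left))
  let d : AlgSp2.sigmaObj W ⟶ Z := Over.homMk (Sigma.desc fun j => (c j).left) (by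
    apply Sigma.hom_ext
    intro j
    change _ ≫ Sigma.desc _ ≫ Z.hom = _ ≫ Sigma.desc _
    rw [Sigma.ι_desc_assoc, Sigma.ι_desc, Over.w (c j)])
  have hd : ∀ j, sigmaIncl W j ≫ d = c j := fun j => Over.OverMorphism.ext (Sigma.ι_desc _ _)
  have : Surjective d.left := ⟨fun z => by
    obtain ⟨j, w, hw⟩ := hs z
    refine ⟨Sigma.ι (fun j => (W j).left) j w, ?_⟩
    rw [← hw, ← hd j, Over.comp_left, Scheme.Hom.comp_apply]
    rfl⟩
  have : Flat d.left := by
    refine (IsZariskiLocalAtSource.iff_of_openCover (P := @Flat) (f := d.left)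
      (sigmaOpenCover fun j => (W j).left)).2 fun j => ?_
    change Flat (Sigma.ι (fun j => (W j).left) j ≫ Sigma.desc fun j => (c j).left)
    rw [Sigma.ι_desc]
    exact hfl j
  have : LocallyOfFinitePresentation d.left := by
    refine (IsZariskiLocalAtSource.iff_of_openCover (P := @LocallyOfFinitePresentation) (f := d.left)
      (sigmaOpenCover fun j => (W j).left)).2 fun j => ?_
    change LocallyOfFinitePresentation (Sigma.ι (fun j => (W j).left) j ≫ Sigma.desc fun j => (c j).left)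
    rw [Sigma.ι_desc]
    exact hlfp j
  obtain ⟨q, hq, -⟩ := exists_glue V fun j => (yon S).map (p j ≫ sigmaIncl W j)
  obtain ⟨q, rfl⟩ := (yon S).map_surjective q
  have hq' : ∀ j, sigmaIncl V j ≫ q = p j ≫ sigmaIncl W j := fun j =>
    (yon S).map_injective (by rw [Functor.map_comp]; exact hq j)
  obtain ⟨v, hv, -⟩ := exists_glue V vq
  have hw : v ≫ π = (yon S).map q ≫ (yon S).map d := sigma_hom_ext V fun j => by
    rw [← Category.assoc, hv, ← Functor.map_comp, ← Functor.map_comp, ← Category.assoc, hq',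
      Category.assoc, hd, Functor.map_comp]
    exact (sq j).w
  refine Groth.AlgSpBasic.exists_affine_desc π d (isPullback_of_local (sigmaIncl_mem W) hw ?_)
  intro T k x hk e
  obtain ⟨T', l, _, ⟨j⟩, rfl⟩ := hk
  have e' : x ≫ π = (yon S).map l ≫ (yon S).map (c j) := by
    rw [e, ← Functor.map_comp, ← Functor.map_comp, Category.assoc, hd]
  refine ⟨(sq j).lift _ _ e' ≫ (yon S).map (sigmaIncl V j), ⟨?_, ?_⟩, ?_⟩
  · rw [Category.assoc, hv, (sq j).lift_fst]
  · rw [Category.assoc, ← Functor.map_comp, hq', Functor.map_comp, ← Category.assoc, (sq j).lift_snd,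
      Functor.map_comp]
  · rintro y ⟨h₁, h₂⟩
    obtain ⟨m, rfl⟩ := (yon S).map_surjective y
    have hm : m ≫ q = l ≫ sigmaIncl W j := (yon S).map_injective (by rw [Functor.map_comp]; exact h₂)
    let m' := (isPullback_sigmaIncl p q hq' j).lift m l hm
    have hm₁ : m' ≫ sigmaIncl V j = m := IsPullback.lift_fst _ _ _ _
    have hm₂ : m' ≫ p j = l := IsPullback.lift_snd _ _ _ _
    have e₁ : (yon S).map m' = (sq j).lift _ _ e' := by
      refine (sq j).hom_ext ?_ ?_
      · rw [(sq j).lift_fst, ← hv, ← Category.assoc, ← Functor.map_comp, hm₁]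
        exact h₁
      · rw [(sq j).lift_snd, ← Functor.map_comp, hm₂]
    rw [← e₁, ← Functor.map_comp, hm₁]

/-- A sheaf which is affine over the members of a covering sieve of a scheme is an affine scheme over it. -/
theorem exists_affineHom_of_locally {P : Sp S} {U : Over S} (π : P ⟶ (yon S).obj U)
    {R : Sieve U} (hR : R ∈ J S U)
    (H : ∀ ⦃V : Over S⦄ (k : V ⟶ U), R k → ∃ (W : Over S) (i : W ⟶ V) (fst : (yon S).obj W ⟶ P),
      IsPullback fst ((yon S).map i) π ((yon S).map k) ∧ IsAffineHom i.left) :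
    ∃ (W : Over S) (i : W ⟶ U) (e : (yon S).obj W ≅ P),
      IsAffineHom i.left ∧ e.hom ≫ π = (yon S).map i := by
  let 𝒰 := U.left.affineCover
  let X : 𝒰.I₀ → Over S := fun a => Over.mk (𝒰.f a ≫ U.hom)
  let j : ∀ a, X a ⟶ U := fun a => Over.homMk (𝒰.f a) rfl
  have haff : ∀ a, IsAffine (X a).left := fun a => inferInstanceAs (IsAffine (𝒰.X a))
  have hloc : ∀ a, ∃ (W : Over S) (i : W ⟶ X a) (fst : (yon S).obj W ⟶ P),
      IsAffine W.left ∧ IsPullback fst ((yon S).map i) π ((yon S).map (j a)) := fun a => by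
    have := haff a
    have sqa : IsPullback (pullback.fst π ((yon S).map (j a))) (pullback.snd π ((yon S).map (j a))) π
        ((yon S).map (j a)) := IsPullback.of_hasPullback _ _
    obtain ⟨W, i, e, hW, he⟩ := exists_affine_of_locally (pullback.snd π ((yon S).map (j a)))
      ((J S).pullback_stable (j a) hR) fun V k hk => by
        obtain ⟨W, i, fst, sq, hi⟩ := H (k ≫ j a) hk
        refine ⟨W, i, sqa.lift fst ((yon S).map i ≫ (yon S).map k)
          (by rw [Category.assoc, ← Functor.map_comp]; exact sq.w), ?_, hi⟩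
        refine IsPullback.of_right ?_ (sqa.lift_snd _ _ _) sqa
        rw [sqa.lift_fst, ← Functor.map_comp]
        exact sq
    exact ⟨W, i, e.hom ≫ pullback.fst π ((yon S).map (j a)), hW,
      sqa.of_iso e.symm (Iso.refl _) (Iso.refl _) (Iso.refl _) (by simp) (by simp [← he]) (by simp) (by simp)⟩
  choose W i f hW hsq using hloc
  have hf : ∀ a, RepWith @IsOpenImmersion (f a) := fun a => by
    refine repWith_of_isPullback (hsq a).flip ((repWith_yon_map_iff _ _).2 ?_)
    exact inferInstanceAs (IsOpenImmersion (𝒰.f a))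
  obtain ⟨G, ⟨e⟩⟩ := Groth.AlgSpBasic.exists_iso_yon_of_openImmersions hf fun T g t => by
    obtain ⟨k, hk⟩ := (yon S).map_surjective (g ≫ π)
    obtain ⟨a, s, hs⟩ := 𝒰.exists_eq (k.left t)
    obtain ⟨V, snd, fst, sq⟩ := (hf a).rep g
    refine ⟨a, V, fst, snd, sq, ?_⟩
    obtain ⟨m, hm⟩ := (yon S).map_surjective (fst ≫ (yon S).map (i a))
    have big' : IsPullback ((yon S).map m) ((yon S).map snd) ((yon S).map (j a)) ((yon S).map k) := by
      rw [hm, hk]
      exact sq.paste_horiz (hsq a).flip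
    have hsch := Groth.AlgSpBasic.isPullback_left (Groth.AlgSpBasic.isPullback_of_yon big')
    obtain ⟨w, -, hw⟩ := Scheme.Pullback.exists_preimage_pullback (f := (j a).left) (g := k.left) s t hs
    refine ⟨hsch.isoPullback.inv w, ?_⟩
    rw [← Scheme.Hom.comp_apply, hsch.isoPullback_inv_snd]
    exact hw
  obtain ⟨i', hi'⟩ := (yon S).map_surjective (e.hom ≫ π)
  refine ⟨G, i', e, ?_, hi'.symm⟩
  refine IsZariskiLocalAtTarget.of_openCover (P := @IsAffineHom) 𝒰 fun a => ?_
  obtain ⟨m, hm⟩ := (yon S).map_surjective (f a ≫ e.inv)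
  have hsqm : IsPullback ((yon S).map m) ((yon S).map (i a)) ((yon S).map i') ((yon S).map (j a)) :=
    (hsq a).of_iso (Iso.refl _) e.symm (Iso.refl _) (Iso.refl _) (by simp [hm]) (by simp) (by simp [hi']) (by simp)
  have hsch := Groth.AlgSpBasic.isPullback_left (Groth.AlgSpBasic.isPullback_of_yon hsqm)
  show IsAffineHom (pullback.snd i'.left (j a).left)
  have := hW a
  have := haff a
  have : IsAffineHom (i a).left := inferInstance
  rw [← hsch.isoPullback_inv_snd]
  infer_instance

end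

end Groth.QuotStk
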