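import Groth.Agent.QuotStk.QuotFib
import Groth.Agent.ChGrpH.BalProd
import Groth.Agent.StkGerb.QuotFin.TrivTorsor
import Groth.Agent.StkGerb.Glue
import Groth.Agent.StkBase.Stack
import Groth.Agent.AlgSpBasic.Topology

/-!
# The quotient stack of a balanced product (helper34)

For `Y = G ×^H Z` the functor `[Y/G] ⟶ [Z/H]`, `(P, φ) ↦ P ×_Y Z`, is an equivalence over `(Sch/S)`.
-/

set_option autoImplicit false
set_option backward.isDefEq.respectTransparency false
set_option backward.isDefEq.respectTransparency.types false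

universe u

open CategoryTheory CategoryTheory.Limits MonoidalCategory CartesianMonoidalCategory MonObj AlgebraicGeometry
open Groth.ChGrpH

noncomputable section

namespace Groth.QuotStkBal

variable {S : Scheme.{u}} {G H Z Y : Over S} [GrpObj G] [GrpObj H]

/-! ### Pseudo-torsors on points -/

section Points

variable {P T₀ : Over S} {a : AlgGrp.Action G P} {π : P ⟶ T₀} (hc : IsPullback a.act (snd G P) π π)
include hc

theorem smul_π {T : Over S} (g : T ⟶ G) (p : T ⟶ P) : (lift g p ≫ a.act) ≫ π = p ≫ π := by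
  rw [Category.assoc, hc.w, ← Category.assoc, lift_snd]

theorem exists_smul {T : Over S} {p p' : T ⟶ P} (e : p' ≫ π = p ≫ π) :
    ∃ g : T ⟶ G, lift g p ≫ a.act = p' := by
  refine ⟨hc.lift p' p e ≫ fst G P, ?_⟩
  have h : lift (hc.lift p' p e ≫ fst G P) p = hc.lift p' p e := by
    conv_rhs => rw [point_eq_lift (hc.lift p' p e), hc.lift_snd]
  rw [h, hc.lift_fst]

theorem smul_cancel {T : Over S} {g g' : T ⟶ G} {p : T ⟶ P}
    (e : lift g p ≫ a.act = lift g' p ≫ a.act) : g = g' := by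
  have h : lift g p = lift g' p := hc.hom_ext e (by rw [lift_snd, lift_snd])
  simpa using congrArg (· ≫ fst G P) h

end Points

theorem hasLocSections_whisker {X X' : Over S} {p : X ⟶ X'} (hp : HasLocSections p) :
    HasLocSections (G ◁ p) := by
  intro T y
  obtain ⟨R, hR, hl⟩ := hp.exists_lift (y ≫ snd G X')
  refine ⟨R, hR, fun U f hf => ?_⟩
  obtain ⟨x, hx⟩ := hl f hf
  refine ⟨(lift ((Over.homMk f : Over.mk (f ≫ T.hom) ⟶ T) ≫ y ≫ fst G X') x).left, ?_⟩
  have h2 : lift ((Over.homMk f : Over.mk (f ≫ T.hom) ⟶ T) ≫ y ≫ fst G X') x ≫ (G ◁ p) = Over.homMk f ≫ y := by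
    rw [lift_whiskerLeft, hx, ← comp_lift, ← point_eq_lift]
  have h3 := congrArg Over.Hom.left h2
  rw [Over.comp_left, Over.comp_left] at h3
  exact h3

variable (i : H ⟶ G) [IsMonHom i] (aZ : AlgGrp.Action H Z) (aY : AlgGrp.Action G Y) (j : G ⊗ Z ⟶ Y)

/-- The canonical map `z ↦ [1, z]`. -/
def eMap : Z ⟶ Y := lift 1 (𝟙 Z) ≫ j

variable {i aZ aY j}

theorem comp_eMap {T : Over S} (z : T ⟶ Z) : z ≫ eMap j = lift (1 : T ⟶ G) z ≫ j := by
  rw [eMap, comp_lift_assoc, Category.comp_id, comp_one]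

variable (hY : ChGrp.IsBalProd Scheme.fppfPrecoverage i aZ aY j)
include hY

theorem smul_eMap {T : Over S} (g : T ⟶ G) (z : T ⟶ Z) :
    lift g (z ≫ eMap j) ≫ aY.act = lift g z ≫ j := by
  rw [comp_eMap, ← balProd_mul hY, _root_.mul_one]

theorem smul_eMap_sub {T : Over S} (h : T ⟶ H) (z : T ⟶ Z) :
    lift (h ≫ i) (z ≫ eMap j) ≫ aY.act = (lift h z ≫ aZ.act) ≫ eMap j := by
  rw [smul_eMap hY, comp_eMap, ← balProd_assoc hY, _root_.one_mul]

theorem eq_of_smul_eMap {T : Over S} {g : T ⟶ G} {z z' : T ⟶ Z}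
    (e : lift g (z ≫ eMap j) ≫ aY.act = z' ≫ eMap j) :
    ∃ h : T ⟶ H, g = h ≫ i ∧ z' = lift h z ≫ aZ.act := by
  rw [smul_eMap hY, comp_eMap] at e
  obtain ⟨h, h₁, h₂⟩ := balProd_exists_of_eq hY e.symm
  exact ⟨h, by rw [eq_comm, mul_inv_eq_one] at h₁; exact h₁, h₂⟩

variable {A B : AlgSt.QuotObj Scheme.fppfPrecoverage G aY}

omit hY in
/-- The total space of the restricted torsor. -/
abbrev rP (j : G ⊗ Z ⟶ Y) (A : AlgSt.QuotObj Scheme.fppfPrecoverage G aY) : Over S := pullback A.φ (eMap j)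

omit hY in
/-- The first projection. -/
abbrev rq (j : G ⊗ Z ⟶ Y) (A : AlgSt.QuotObj Scheme.fppfPrecoverage G aY) : rP j A ⟶ A.P := pullback.fst _ _

omit hY in
/-- The second projection. -/
abbrev rz (j : G ⊗ Z ⟶ Y) (A : AlgSt.QuotObj Scheme.fppfPrecoverage G aY) : rP j A ⟶ Z := pullback.snd _ _

theorem act_w (A : AlgSt.QuotObj Scheme.fppfPrecoverage G aY) :
    (lift (fst H (rP j A) ≫ i) (snd H (rP j A) ≫ rq j A) ≫ A.act.act) ≫ A.φ =
      (lift (fst H (rP j A)) (snd H (rP j A) ≫ rz j A) ≫ aZ.act) ≫ eMap j := by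
  rw [Category.assoc, A.eqv, lift_whiskerLeft_assoc, Category.assoc, pullback.condition, ← Category.assoc (snd _ _),
    smul_eMap_sub hY]

/-- The action of the subgroup on the restricted torsor. -/
def rMap (A : AlgSt.QuotObj Scheme.fppfPrecoverage G aY) : H ⊗ rP j A ⟶ rP j A :=
  pullback.lift _ _ (act_w hY A)

theorem lift_rMap_q {T : Over S} (h : T ⟶ H) (x : T ⟶ rP j A) :
    lift h x ≫ rMap hY A ≫ rq j A = lift (h ≫ i) (x ≫ rq j A) ≫ A.act.act := by
  rw [rMap, pullback.lift_fst, comp_lift_assoc, lift_fst_assoc, lift_snd_assoc]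

theorem lift_rMap_z {T : Over S} (h : T ⟶ H) (x : T ⟶ rP j A) :
    lift h x ≫ rMap hY A ≫ rz j A = lift h (x ≫ rz j A) ≫ aZ.act := by
  rw [rMap, pullback.lift_snd, comp_lift_assoc, lift_fst, lift_snd_assoc]

/-- The restricted action. -/
def rAct (A : AlgSt.QuotObj Scheme.fppfPrecoverage G aY) : AlgGrp.Action H (rP j A) where
  act := rMap hY A
  one_act := by
    have e : (η[H] ▷ rP j A) = lift (1 : _ ⟶ H) (snd (𝟙_ (Over S)) (rP j A)) := by
      apply CartesianMonoidalCategory.hom_ext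
      · rw [whiskerRight_fst, lift_fst, Hom.one_def, toUnit_unique (fst _ _) (toUnit _)]
      · rw [whiskerRight_snd, lift_snd]
    rw [e, leftUnitor_hom]
    apply pullback.hom_ext
    · rw [Category.assoc, lift_rMap_q, one_comp, AlgGrp.Action.lift_one_act]
    · rw [Category.assoc, lift_rMap_z, AlgGrp.Action.lift_one_act]
  mul_act := by
    have e₁ : (μ[H] ▷ rP j A) = lift ((fst (H ⊗ H) _ ≫ fst H H) * (fst (H ⊗ H) _ ≫ snd H H))
        (snd (H ⊗ H) (rP j A)) := by
      apply CartesianMonoidalCategory.hom_ext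
      · rw [whiskerRight_fst, lift_fst, Hom.mul_def, ← comp_lift, lift_fst_snd, Category.comp_id]
      · rw [whiskerRight_snd, lift_snd]
    have e₂ : (α_ H H (rP j A)).hom ≫ (H ◁ rMap hY A) = lift (fst (H ⊗ H) _ ≫ fst H H)
        (lift (fst (H ⊗ H) _ ≫ snd H H) (snd (H ⊗ H) (rP j A)) ≫ rMap hY A) := by
      apply CartesianMonoidalCategory.hom_ext
      · simp
      · rw [lift_snd, Category.assoc, whiskerLeft_snd, ← Category.assoc]
        congr 1
        apply CartesianMonoidalCategory.hom_ext <;> simp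
    rw [← Category.assoc, e₁, e₂]
    apply pullback.hom_ext
    · simp only [Category.assoc, lift_rMap_q hY, mul_comp, AlgGrp.Action.lift_mul_act]
    · simp only [Category.assoc, lift_rMap_z hY, AlgGrp.Action.lift_mul_act]

theorem lift_rAct_q {T : Over S} (h : T ⟶ H) (x : T ⟶ rP j A) :
    (lift h x ≫ (rAct hY A).act) ≫ rq j A = lift (h ≫ i) (x ≫ rq j A) ≫ A.act.act := by
  rw [Category.assoc]; exact lift_rMap_q hY h x

theorem lift_rAct_z {T : Over S} (h : T ⟶ H) (x : T ⟶ rP j A) :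
    (lift h x ≫ (rAct hY A).act) ≫ rz j A = lift h (x ≫ rz j A) ≫ aZ.act := by
  rw [Category.assoc]; exact lift_rMap_z hY h x

/-- Two points of the restricted torsor over one point of the base differ by the subgroup. -/
theorem exists_sub_smul {T : Over S} (x x' : T ⟶ rP j A)
    (e : x' ≫ rq j A ≫ A.π = x ≫ rq j A ≫ A.π) :
    ∃ h : T ⟶ H, lift h x ≫ (rAct hY A).act = x' := by
  obtain ⟨g, hg⟩ := exists_smul A.cart (p := x ≫ rq j A) (p' := x' ≫ rq j A) (by simpa using e)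
  have e2 : lift g ((x ≫ rz j A) ≫ eMap j) ≫ aY.act = (x' ≫ rz j A) ≫ eMap j := by
    rw [Category.assoc, Category.assoc, ← pullback.condition, ← Category.assoc x, ← Category.assoc x', ← hg,
      Category.assoc (lift _ _), A.eqv, lift_whiskerLeft_assoc]
  obtain ⟨h, rfl, hz⟩ := eq_of_smul_eMap hY e2
  refine ⟨h, pullback.hom_ext ?_ ?_⟩
  · rw [lift_rAct_q hY, hg]
  · rw [lift_rAct_z hY, hz]

omit hY in
theorem exists_local_point (hY : ChGrp.IsBalProd Scheme.fppfPrecoverage i aZ aY j)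
    (A : AlgSt.QuotObj Scheme.fppfPrecoverage G aY) {T : Over S} (p : T ⟶ A.P) :
    ∃ R ∈ Scheme.fppfPrecoverage T.left, ∀ ⦃U : Scheme.{u}⦄ (f : U ⟶ T.left), R f →
      ∃ (g : Over.mk (f ≫ T.hom) ⟶ G) (x : Over.mk (f ≫ T.hom) ⟶ rP j A),
        lift g (x ≫ rq j A) ≫ A.act.act = (Over.homMk f : Over.mk (f ≫ T.hom) ⟶ T) ≫ p := by
  obtain ⟨R, hR, hl⟩ := balProd_exists_local hY (p ≫ A.φ)
  refine ⟨R, hR, fun U f hf => ?_⟩
  obtain ⟨g, z, hgz⟩ := hl f hf
  let p' := lift g⁻¹ ((Over.homMk f : Over.mk (f ≫ T.hom) ⟶ T) ≫ p) ≫ A.act.act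
  have w : p' ≫ A.φ = z ≫ eMap j := by
    show (lift g⁻¹ _ ≫ A.act.act) ≫ A.φ = _
    rw [Category.assoc, A.eqv, lift_whiskerLeft_assoc, Category.assoc, ← hgz, ← smul_eMap hY,
      ← AlgGrp.Action.lift_mul_act, inv_mul_cancel, AlgGrp.Action.lift_one_act]
  refine ⟨g, pullback.lift p' z w, ?_⟩
  rw [pullback.lift_fst]
  show lift g (lift g⁻¹ _ ≫ A.act.act) ≫ A.act.act = _
  rw [← AlgGrp.Action.lift_mul_act, mul_inv_cancel, AlgGrp.Action.lift_one_act]

/-- The generating map `(g, x) ↦ g • x`. -/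
def gen (A : AlgSt.QuotObj Scheme.fppfPrecoverage G aY) (j : G ⊗ Z ⟶ Y) : G ⊗ rP j A ⟶ A.P :=
  (G ◁ rq j A) ≫ A.act.act

theorem hasLocSections_gen (A : AlgSt.QuotObj Scheme.fppfPrecoverage G aY) :
    HasLocSections (gen A j) := by
  intro T p
  obtain ⟨R, hR, hl⟩ := exists_local_point hY A p
  refine ⟨R, hR, fun U f hf => ?_⟩
  obtain ⟨g, x, hgx⟩ := hl f hf
  refine ⟨(lift g x).left, ?_⟩
  have h2 : lift g x ≫ gen A j = Over.homMk f ≫ p := by
    rw [gen, lift_whiskerLeft_assoc, hgx]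
  simpa using congrArg Over.Hom.left h2

variable [Mono i]

theorem rCart (A : AlgSt.QuotObj Scheme.fppfPrecoverage G aY) :
    IsPullback (rAct hY A).act (snd H (rP j A)) (rq j A ≫ A.π) (rq j A ≫ A.π) := by
  refine isPullback_of_points ?_ ?_ ?_
  · have e : (rAct hY A).act = lift (fst H (rP j A)) (snd H (rP j A)) ≫ (rAct hY A).act := by
      rw [lift_fst_snd, Category.id_comp]
    rw [← Category.assoc, e, lift_rAct_q hY, smul_π A.cart, Category.assoc]
  · intro T x' x e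
    obtain ⟨h, hh⟩ := exists_sub_smul hY x x' e
    exact ⟨lift h x, hh, lift_snd _ _⟩
  · intro T l l' ha hs
    have el := point_eq_lift l
    have el' := point_eq_lift l'
    rw [el, el', hs] at ha
    have h1 := congrArg (fun m => m ≫ rq j A) ha
    simp only [lift_rAct_q hY] at h1
    rw [el, el', hs]
    congr 1
    exact (cancel_mono i).1 (smul_cancel A.cart h1)

theorem rLoc (A : AlgSt.QuotObj Scheme.fppfPrecoverage G aY) :
    NonAbH1.IsLocallyTrivialFor Scheme.fppfPrecoverage (Over.mk (rq j A ≫ A.π).left : Over A.base.left) := by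
  have hmem : Groth.QuotStk.secSieve ((AlgSp.yon S).map (rq j A ≫ A.π)) ∈ AlgSp.J S A.base := by
    refine (AlgSp.J S).transitive (Groth.QuotStk.secSieve_mem_of_hasSecLoc
      ((Groth.QuotStk.hasSecLoc_emb_iff A.π).2 A.loc)) _ fun V k hk => ?_
    obtain ⟨s, hs⟩ := hk
    obtain ⟨s, rfl⟩ := (AlgSp.yon S).map_surjective s
    rw [← Functor.map_comp] at hs
    have hs' : s ≫ A.π = k := (AlgSp.yon S).map_injective hs
    obtain ⟨R, hR, hl⟩ := exists_local_point hY A s
    rw [GrothendieckTopology.mem_over_iff]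
    refine GrothendieckTopology.superset_covering _ ?_ (Precoverage.generate_mem_toGrothendieck hR)
    rw [Sieve.generate_le_iff]
    intro U f hf
    obtain ⟨g, x, hgx⟩ := hl f hf
    refine (Sieve.overEquiv_iff _ _).2 ?_
    refine ⟨(AlgSp.yon S).map x, ?_⟩
    rw [← Functor.map_comp, ← hs', ← Category.assoc x, ← smul_π A.cart g (x ≫ rq j A), hgx]
    congr 1
  exact (Groth.QuotStk.hasSecLoc_emb_iff _).1 (Groth.QuotStk.hasSecLoc_of_secSieve_mem hmem)

/-- The restricted torsor. -/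
def rObj (A : AlgSt.QuotObj Scheme.fppfPrecoverage G aY) : AlgSt.QuotObj Scheme.fppfPrecoverage H aZ where
  base := A.base
  P := rP j A
  act := rAct hY A
  π := rq j A ≫ A.π
  cart := rCart hY A
  loc := rLoc hY A
  φ := rz j A
  eqv := by
    show rMap hY A ≫ rz j A = _
    rw [rMap, pullback.lift_snd]
    congr 1

omit hY [Mono i] in
/-- The restricted map of total spaces. -/
def rTop (j : G ⊗ Z ⟶ Y) (f : A ⟶ B) : rP j A ⟶ rP j B :=
  pullback.lift (rq j A ≫ f.top) (rz j A) (by rw [Category.assoc, f.wφ, pullback.condition])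

/-- The restricted morphism. -/
def rHom (f : A ⟶ B) : rObj hY A ⟶ rObj hY B where
  base := f.base
  top := rTop j f
  eqv := by
    apply pullback.hom_ext
    · show (rMap hY A ≫ rTop j f) ≫ rq j B = ((H ◁ rTop j f) ≫ rMap hY B) ≫ rq j B
      rw [Category.assoc, rTop, pullback.lift_fst, rMap, pullback.lift_fst_assoc, Category.assoc, f.eqv,
        Category.assoc, rMap, pullback.lift_fst, lift_whiskerLeft_assoc, comp_lift_assoc, whiskerLeft_fst_assoc,
        whiskerLeft_snd_assoc, pullback.lift_fst, Category.assoc]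
    · show (rMap hY A ≫ rTop j f) ≫ rz j B = ((H ◁ rTop j f) ≫ rMap hY B) ≫ rz j B
      rw [Category.assoc, rTop, pullback.lift_snd, rMap, pullback.lift_snd, Category.assoc, rMap, pullback.lift_snd,
        comp_lift_assoc, whiskerLeft_fst, whiskerLeft_snd_assoc, pullback.lift_snd]
  cart := by
    refine isPullback_of_points ?_ ?_ ?_
    · show rTop j f ≫ rq j B ≫ B.π = (rq j A ≫ A.π) ≫ f.base
      rw [rTop, pullback.lift_fst_assoc, Category.assoc, Category.assoc, f.cart.w]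
    · intro T x t e
      change x ≫ rq j B ≫ B.π = t ≫ f.base at e
      obtain ⟨p, hp₁, hp₂⟩ := f.cart.exists_lift (x ≫ rq j B) t (by simpa using e)
      have w : p ≫ A.φ = (x ≫ rz j B) ≫ eMap j := by
        rw [← f.wφ, ← Category.assoc, hp₁, Category.assoc, pullback.condition, Category.assoc]
      refine ⟨pullback.lift p (x ≫ rz j B) w, pullback.hom_ext ?_ ?_, ?_⟩
      · show (pullback.lift _ _ w ≫ rTop j f) ≫ rq j B = x ≫ rq j B
        rw [Category.assoc, rTop, pullback.lift_fst, pullback.lift_fst_assoc, hp₁]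
      · show (pullback.lift _ _ w ≫ rTop j f) ≫ rz j B = x ≫ rz j B
        rw [Category.assoc, rTop, pullback.lift_snd, pullback.lift_snd]
      · show pullback.lift _ _ w ≫ rq j A ≫ A.π = t
        rw [pullback.lift_fst_assoc, hp₂]
    · intro T l l' ha hs
      change l ≫ rq j A ≫ A.π = l' ≫ rq j A ≫ A.π at hs
      change l ≫ rTop j f = l' ≫ rTop j f at ha
      have h1 := congrArg (· ≫ rq j B) ha
      have h2 := congrArg (· ≫ rz j B) ha
      simp only [rTop, Category.assoc, pullback.lift_fst, pullback.lift_snd] at h1 h2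
      exact pullback.hom_ext (f.cart.hom_ext (by simpa using h1) (by simpa using hs)) h2
  wφ := pullback.lift_snd _ _ _

/-- `[Y/G] ⟶ [Z/H]`. -/
def rFunctor : AlgSt.QuotSt Scheme.fppfPrecoverage G aY ⥤ᵇ AlgSt.QuotSt Scheme.fppfPrecoverage H aZ where
  toFunctor :=
    { obj := fun A => rObj hY A
      map := fun f => rHom hY f
      map_id := fun A => AlgSt.QuotObj.hom_ext rfl (by
        show rTop j (𝟙 A) = 𝟙 (rP j A)
        apply pullback.hom_ext <;> simp [rTop])
      map_comp := fun {A B C} f g => AlgSt.QuotObj.hom_ext rfl (by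
        show rTop j (f ≫ g) = rTop j f ≫ rTop j g
        apply pullback.hom_ext <;> simp [rTop]) }
  w := rfl

theorem gen_rTop (f : A ⟶ B) : gen A j ≫ f.top = (G ◁ rTop j f) ≫ gen B j := by
  rw [gen, gen, Category.assoc, f.eqv, ← MonoidalCategory.whiskerLeft_comp_assoc,
    ← MonoidalCategory.whiskerLeft_comp_assoc, rTop, pullback.lift_fst]

theorem rFunctor_faithful : (rFunctor hY).toFunctor.Faithful := ⟨fun {A B} f g h => by
  have hb : f.base = g.base := congrArg (fun m => m.base) h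
  have ht : rTop j f = rTop j g := congrArg (fun m => m.top) h
  exact AlgSt.QuotObj.hom_ext hb ((hasLocSections_gen hY A).hom_ext (by rw [gen_rTop hY, gen_rTop hY, ht]))⟩

theorem rFunctor_full : (rFunctor hY).toFunctor.Full := ⟨fun {A B} k => by
  obtain ⟨kt, hkt⟩ : ∃ kt : rP j A ⟶ rP j B, kt = k.top := ⟨k.top, rfl⟩
  have keqv : (rAct hY A).act ≫ kt = (H ◁ kt) ≫ (rAct hY B).act := by rw [hkt]; exact k.eqv
  have kw : kt ≫ rz j B = rz j A := by rw [hkt]; exact k.wφ
  have kπ : kt ≫ rq j B ≫ B.π = (rq j A ≫ A.π) ≫ k.base := by rw [hkt]; exact k.cart.w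
  obtain ⟨kb, hkb⟩ : ∃ kb : A.base ⟶ B.base, kb = k.base := ⟨k.base, rfl⟩
  rw [← hkb] at kπ
  obtain ⟨top, htop⟩ := (hasLocSections_gen hY A).exists_desc ((G ◁ kt) ≫ gen B j) (by
    intro T l l' e
    rw [point_eq_lift l, point_eq_lift l'] at e ⊢
    generalize l ≫ fst G _ = g at e ⊢
    generalize l ≫ snd G _ = x at e ⊢
    generalize l' ≫ fst G _ = g' at e ⊢
    generalize l' ≫ snd G _ = x' at e ⊢
    simp only [gen, lift_whiskerLeft_assoc, lift_whiskerLeft] at e ⊢
    have e2 := congrArg (· ≫ A.π) e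
    simp only [smul_π A.cart] at e2
    obtain ⟨h, rfl⟩ := exists_sub_smul hY x x' (by simpa using e2.symm)
    rw [lift_rAct_q hY, ← AlgGrp.Action.lift_mul_act] at e
    rw [smul_cancel A.cart e, AlgGrp.Action.lift_mul_act]
    congr 2
    rw [Category.assoc (lift h x), keqv, lift_whiskerLeft_assoc, lift_rAct_q hY])
  have htopP : ∀ {T : Over S} (g : T ⟶ G) (x : T ⟶ rP j A),
      (lift g (x ≫ rq j A) ≫ A.act.act) ≫ top = lift g ((x ≫ kt) ≫ rq j B) ≫ B.act.act := by
    intro T g x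
    have e := congrArg (lift g x ≫ ·) htop
    simp only [gen, lift_whiskerLeft_assoc, Category.assoc] at e
    rw [Category.assoc, Category.assoc]
    exact e
  have hπ : top ≫ B.π = A.π ≫ kb := (hasLocSections_gen hY A).hom_ext (by
    suffices h : ∀ {T : Over S} (l : T ⟶ G ⊗ rP j A), l ≫ gen A j ≫ top ≫ B.π = l ≫ gen A j ≫ A.π ≫ kb by
      simpa using h (𝟙 _)
    intro T l
    obtain ⟨g, x, rfl⟩ : ∃ g x, l = lift g x := ⟨_, _, point_eq_lift l⟩
    simp only [gen, lift_whiskerLeft_assoc, Category.assoc]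
    rw [← Category.assoc (lift _ _), ← Category.assoc (_ ≫ _) top, htopP, smul_π B.cart]
    simp only [Category.assoc, A.cart.w_assoc, lift_snd_assoc, kπ])
  have heqv : A.act.act ≫ top = (G ◁ top) ≫ B.act.act :=
    (hasLocSections_whisker (hasLocSections_gen hY A)).hom_ext (by
      suffices h : ∀ {T : Over S} (l : T ⟶ G ⊗ (G ⊗ rP j A)),
          l ≫ (G ◁ gen A j) ≫ A.act.act ≫ top = l ≫ (G ◁ gen A j) ≫ (G ◁ top) ≫ B.act.act by
        simpa using h (𝟙 _)
      intro T l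
      obtain ⟨g', m, rfl⟩ : ∃ g' m, l = lift g' m := ⟨_, _, point_eq_lift l⟩
      obtain ⟨g, x, rfl⟩ : ∃ g x, m = lift g x := ⟨_, _, point_eq_lift m⟩
      simp only [lift_whiskerLeft_assoc, gen, lift_whiskerLeft_assoc]
      rw [← Category.assoc (lift g' _), ← AlgGrp.Action.lift_mul_act, htopP, htopP, ← AlgGrp.Action.lift_mul_act])
  have hwφ : top ≫ B.φ = A.φ := (hasLocSections_gen hY A).hom_ext (by
    suffices h : ∀ {T : Over S} (l : T ⟶ G ⊗ rP j A), l ≫ gen A j ≫ top ≫ B.φ = l ≫ gen A j ≫ A.φ by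
      simpa using h (𝟙 _)
    intro T l
    obtain ⟨g, x, rfl⟩ : ∃ g x, l = lift g x := ⟨_, _, point_eq_lift l⟩
    simp only [gen, lift_whiskerLeft_assoc, Category.assoc]
    rw [← Category.assoc (lift _ _) A.act.act, ← Category.assoc (_ ≫ _) top, htopP, Category.assoc, B.eqv,
      lift_whiskerLeft_assoc, A.eqv, lift_whiskerLeft_assoc]
    simp only [Category.assoc, pullback.condition]
    rw [reassoc_of% kw])
  have hcart : IsPullback top A.π B.π kb := by
    refine isPullback_of_points hπ ?_ ?_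
    · intro T b t e
      obtain ⟨R, hR, hs⟩ := A.loc
      let W := pullback t A.π
      have hW : HasLocSections (pullback.fst t A.π : W ⟶ T) := by
        intro U y
        obtain ⟨R', hR', hl⟩ := (Groth.ChGrpH.hasLocSections A.π A.loc).exists_lift (y ≫ t)
        refine ⟨R', hR', fun U' f hf => ?_⟩
        obtain ⟨x, hx⟩ := hl f hf
        refine ⟨(pullback.lift ((Over.homMk f : Over.mk (f ≫ U.hom) ⟶ U) ≫ y) x
          (by rw [Category.assoc, hx]) : _ ⟶ W).left, ?_⟩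
        simpa using congrArg Over.Hom.left (pullback.lift_fst ((Over.homMk f : Over.mk (f ≫ U.hom) ⟶ U) ≫ y) x
          (by rw [Category.assoc, hx]))
      obtain ⟨g, hg⟩ := exists_smul B.cart (p := pullback.snd t A.π ≫ top) (p' := pullback.fst t A.π ≫ b) (by
        rw [Category.assoc, e, Category.assoc, hπ, pullback.condition_assoc])
      obtain ⟨p, hp⟩ := hW.exists_desc (lift g (pullback.snd t A.π) ≫ A.act.act) (by
        intro U w w' hw
        rw [comp_lift_assoc, comp_lift_assoc]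
        have hw2 : (w' ≫ pullback.snd t A.π) ≫ A.π = (w ≫ pullback.snd t A.π) ≫ A.π := by
          rw [Category.assoc, ← pullback.condition, ← Category.assoc, ← hw, Category.assoc, pullback.condition,
            Category.assoc]
        obtain ⟨c, hc⟩ := exists_smul A.cart hw2
        have h1 := congrArg (w ≫ ·) hg
        have h2 := congrArg (w' ≫ ·) hg
        simp only [comp_lift_assoc] at h1 h2
        rw [← Category.assoc w', ← hc, Category.assoc (lift _ _), heqv, lift_whiskerLeft_assoc,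
          ← AlgGrp.Action.lift_mul_act] at h2
        have h3 : w' ≫ pullback.fst t A.π ≫ b = w ≫ pullback.fst t A.π ≫ b := by
          rw [← Category.assoc, ← hw, Category.assoc]
        rw [h3, ← h1, ← Category.assoc w] at h2
        rw [← hc, ← AlgGrp.Action.lift_mul_act, smul_cancel B.cart h2])
      refine ⟨p, ?_, ?_⟩
      · exact hW.hom_ext (by
          rw [← Category.assoc, hp, Category.assoc, heqv, lift_whiskerLeft_assoc, hg])
      · exact hW.hom_ext (by
          rw [← Category.assoc, hp, smul_π A.cart, pullback.condition])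
    · intro T l l' ha hs
      obtain ⟨g, rfl⟩ := exists_smul A.cart hs
      rw [Category.assoc, heqv, lift_whiskerLeft_assoc] at ha
      conv_rhs at ha => rw [← AlgGrp.Action.lift_one_act B.act (l' ≫ top)]
      rw [smul_cancel B.cart ha, AlgGrp.Action.lift_one_act]
  refine ⟨⟨kb, top, heqv, hcart, hwφ⟩, AlgSt.QuotObj.hom_ext hkb ?_⟩
  show rTop j _ = k.top
  rw [← hkt]
  apply pullback.hom_ext
  · rw [rTop, pullback.lift_fst]
    have e := htopP 1 (𝟙 (rP j A))
    simp only [Category.id_comp, AlgGrp.Action.lift_one_act] at e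
    exact e
  · rw [rTop, pullback.lift_snd, kw]⟩

omit hY [Mono i] in
theorem triv_inv_base {T : Over S} (x : T ⟶ Z) (A : AlgSt.QuotObj Scheme.fppfPrecoverage H aZ) (hA : A.base = T)
    (i₀ : Groth.StkGerb.QuotFin.trivObj Scheme.fppfPrecoverage aZ x ≅ ⟨A, hA⟩) : i₀.inv.1.base = eqToHom hA := by
  obtain ⟨_, _, hb⟩ := (Groth.StkBase.isHomLift_iff_eqToHom _ _).1 i₀.inv.2
  exact hb.trans (by simp)

omit hY [Mono i] in
/-- A torsor with a section maps to any torsor with a point over the same point of `Z`. -/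
theorem exists_hom_of_iso {T : Over S} (A ξ : AlgSt.QuotObj Scheme.fppfPrecoverage H aZ) (hA : A.base = T)
    (s : T ⟶ ξ.P) (x : T ⟶ Z) (e : s ≫ ξ.φ = x)
    (i₀ : Groth.StkGerb.QuotFin.trivObj Scheme.fppfPrecoverage aZ x ≅ ⟨A, hA⟩) :
    ∃ g : A ⟶ ξ, g.base = eqToHom hA ≫ s ≫ ξ.π := by
  subst e
  refine ⟨i₀.inv.1 ≫ Groth.QuotStk.homOfPt ξ s, ?_⟩
  rw [AlgSt.QuotObj.comp_base, triv_inv_base _ A hA i₀]
  rfl

omit hY [Mono i] in
theorem exists_hom_of_sections (A ξ : AlgSt.QuotObj Scheme.fppfPrecoverage H aZ) (σ : A.base ⟶ A.P)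
    (hσ : σ ≫ A.π = 𝟙 _) (s : A.base ⟶ ξ.P) (e : σ ≫ A.φ = s ≫ ξ.φ) :
    ∃ g : A ⟶ ξ, g.base = s ≫ ξ.π := by
  obtain ⟨i₀⟩ := Groth.StkGerb.QuotFin.nonempty_iso_trivObj (ξ := ⟨A, rfl⟩) σ (hσ.trans (eqToHom_refl _ _).symm)
  obtain ⟨g, hg⟩ := exists_hom_of_iso A ξ rfl s _ e.symm i₀
  exact ⟨g, hg.trans (Category.id_comp _)⟩

omit hY [Mono i] in
theorem unitSec_trivT_φ {V : Over S} (y : V ⟶ Y) :
    Groth.QuotStk.unitSec G V ≫ (Groth.QuotStk.trivT aY y).φ = y :=
  Groth.QuotStk.unitSec_act aY y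

theorem exists_local_preimage (ξ : AlgSt.QuotObj Scheme.fppfPrecoverage H aZ) {V : Over S} (s : V ⟶ ξ.P)
    (A₀ : AlgSt.QuotObj Scheme.fppfPrecoverage G aY) (hb : A₀.base = V) (u : V ⟶ A₀.P)
    (hu : u ≫ A₀.π = eqToHom hb.symm) (hφ : u ≫ A₀.φ = (s ≫ ξ.φ) ≫ eMap j) :
    ∃ g : (rFunctor hY).obj A₀ ⟶ ξ, g.base = eqToHom hb ≫ s ≫ ξ.π := by
  subst hb
  obtain ⟨g, hg⟩ := exists_hom_of_sections (rObj hY A₀) ξ (pullback.lift u (s ≫ ξ.φ) hφ)
    ((pullback.lift_fst_assoc _ _ _ _).trans (hu.trans (eqToHom_refl _ _))) s (pullback.lift_snd _ _ _)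
  exact ⟨g, hg.trans (Category.id_comp _).symm⟩

/-- `[Y/G]` is a quotient stack of `Z` by `H`. -/
theorem isQuotientOf_balProd [IsAffineHom G.hom] [IsAffineHom H.hom] :
    AlgSt.IsQuotientOf Scheme.fppfPrecoverage H aZ (AlgSt.QuotSt Scheme.fppfPrecoverage G aY) := by
  have := rFunctor_full hY
  have := rFunctor_faithful hY
  suffices h : FibCat.IsEquivOver (rFunctor hY) from
    h.elim fun F' hF' => ⟨F', rFunctor hY, hF'.2, hF'.1⟩
  refine Groth.StkGerb.isEquivOver_of_locally_surj (AlgSp.J S) (Groth.QuotStk.isStack_quotSt aY)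
    (Groth.StkBase.isPrestack_of_isStack (Groth.QuotStk.isStack_quotSt aZ)) (rFunctor hY) fun ξ => ?_
  refine ⟨_, Groth.QuotStk.secSieve_mem_of_hasSecLoc ((Groth.QuotStk.hasSecLoc_emb_iff ξ.π).2 ξ.loc),
    fun V f hf => ?_⟩
  obtain ⟨s, hs⟩ := hf
  obtain ⟨s, rfl⟩ := (AlgSp.yon S).map_surjective s
  rw [← Functor.map_comp] at hs
  have hs' : s ≫ ξ.π = f := (AlgSp.yon S).map_injective hs
  obtain ⟨g, hg⟩ := exists_local_preimage hY ξ s (Groth.QuotStk.trivT aY ((s ≫ ξ.φ) ≫ eMap j)) rfl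
    (Groth.QuotStk.unitSec G V) (Groth.QuotStk.unitSec_snd V) (unitSec_trivT_φ _)
  refine ⟨_, g, IsHomLift.of_fac' _ _ _ rfl rfl ?_⟩
  show g.base = 𝟙 _ ≫ f ≫ 𝟙 _
  rw [hg, Category.comp_id, ← hs']
  rfl

end Groth.QuotStkBal

noncomputable section

namespace Groth.QuotStkBal

variable {S : Scheme.{u}} {G H X Q : Over S} [GrpObj G] [GrpObj H] {i : H ⟶ G} [IsMonHom i]
  (aX : AlgGrp.Action G X) {aQ : AlgGrp.Action G Q} {q₀ : 𝟙_ (Over S) ⟶ Q}

/-- `(g, x) ↦ (g q₀, g x)`. -/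
def homogMap (aX : AlgGrp.Action G X) (aQ : AlgGrp.Action G Q) (q₀ : 𝟙_ (Over S) ⟶ Q) : G ⊗ X ⟶ Q ⊗ X :=
  lift (fst G X ≫ aQ.orbitMap q₀) aX.act

theorem lift_homogMap {T : Over S} (g : T ⟶ G) (x : T ⟶ X) :
    lift g x ≫ homogMap aX aQ q₀ = lift (g ≫ aQ.orbitMap q₀) (lift g x ≫ aX.act) := by
  rw [homogMap, comp_lift, lift_fst_assoc]

/-- `G/H × X` is the balanced product of `X` along `H`. -/
theorem isBalProd_homog (hQ : ChGrp.IsHomog Scheme.fppfPrecoverage i aQ q₀) :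
    ChGrp.IsBalProd Scheme.fppfPrecoverage i (aX.restrict i) (aQ.prod aX) (homogMap aX aQ q₀) := by
  refine ⟨?_, ?_, ?_⟩
  · rw [AlgGrp.Action.IsEquivariant]
    suffices h : ∀ {T : Over S} (l : T ⟶ G ⊗ (G ⊗ X)),
        l ≫ ((NonAbH1.trivialAction G).prod (AlgGrp.Action.trivial G X)).act ≫ homogMap aX aQ q₀ =
          l ≫ (G ◁ homogMap aX aQ q₀) ≫ (aQ.prod aX).act by simpa using h (𝟙 _)
    intro T l
    obtain ⟨g', m, rfl⟩ : ∃ g' m, l = lift g' m := ⟨_, _, point_eq_lift l⟩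
    obtain ⟨g, x, rfl⟩ : ∃ g x, m = lift g x := ⟨_, _, point_eq_lift m⟩
    rw [lift_whiskerLeft_assoc, lift_homogMap, AlgGrp.Action.lift_prod_act, AlgGrp.Action.lift_prod_act_assoc,
      AlgGrp.Action.lift_trivial_act, lift_homogMap, ← AlgGrp.Action.lift_mul_act, AlgGrp.Action.comp_orbitMap, AlgGrp.Action.comp_orbitMap,
      ← AlgGrp.Action.lift_mul_act]
    simp [NonAbH1.trivialAction, Hom.mul_def]
  · refine isPullback_of_points ?_ ?_ ?_
    · suffices h : ∀ {T : Over S} (l : T ⟶ H ⊗ (G ⊗ X)),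
          l ≫ (ChGrp.twist i (aX.restrict i)).act ≫ homogMap aX aQ q₀ = l ≫ snd H (G ⊗ X) ≫ homogMap aX aQ q₀ by
        simpa using h (𝟙 _)
      intro T l
      obtain ⟨h, m, rfl⟩ : ∃ h m, l = lift h m := ⟨_, _, point_eq_lift l⟩
      obtain ⟨g, x, rfl⟩ : ∃ g x, m = lift g x := ⟨_, _, point_eq_lift m⟩
      rw [lift_snd_assoc, ChGrp.lift_twist_act_assoc, lift_homogMap, lift_homogMap,
        AlgGrp.Action.lift_restrict_act, ← AlgGrp.Action.lift_mul_act, inv_mul_cancel_right]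
      congr 1
      have e := congrArg (lift g ((h : T ⟶ H)⁻¹) ≫ ·) hQ.2.1.w
      simp only [lift_fst_assoc, lift_whiskerLeft_assoc] at e
      rw [e, ← Category.assoc]
      congr 1
      rw [lift_whiskerLeft_assoc, ← Hom.mul_def, GrpObj.inv_comp]
    · intro T a b e
      obtain ⟨g', z', rfl⟩ : ∃ g' z', a = lift g' z' := ⟨_, _, point_eq_lift a⟩
      obtain ⟨g, z, rfl⟩ : ∃ g z, b = lift g z := ⟨_, _, point_eq_lift b⟩
      rw [lift_homogMap, lift_homogMap] at e
      have e₁ : g ≫ aQ.orbitMap q₀ = g' ≫ aQ.orbitMap q₀ := by simpa using (congrArg (· ≫ fst Q X) e).symm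
      have e₂ : lift g' z' ≫ aX.act = lift g z ≫ aX.act := by simpa using congrArg (· ≫ snd Q X) e
      obtain ⟨l, hl₁, hl₂⟩ := hQ.2.1.exists_lift g g' e₁
      have hl : g' = g * ((l ≫ snd G H) ≫ i) := by
        rw [← hl₂, ← hl₁, Hom.mul_def, ← Category.assoc]
        congr 1
        apply CartesianMonoidalCategory.hom_ext <;> simp
      refine ⟨lift (l ≫ snd G H)⁻¹ (lift g z), ?_, lift_snd _ _⟩
      rw [ChGrp.lift_twist_act, GrpObj.inv_comp, inv_inv, ← hl, AlgGrp.Action.lift_restrict_act, GrpObj.inv_comp]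
      congr 1
      have e₃ := congrArg (fun m => lift g'⁻¹ m ≫ aX.act) e₂
      simp only [← AlgGrp.Action.lift_mul_act, inv_mul_cancel, AlgGrp.Action.lift_one_act] at e₃
      rw [e₃, hl, mul_inv_rev, inv_mul_cancel_right]
    · intro T l l' ha hs
      obtain ⟨h, m, rfl⟩ : ∃ h m, l = lift h m := ⟨_, _, point_eq_lift l⟩
      obtain ⟨h', m', rfl⟩ : ∃ h m, l' = lift h m := ⟨_, _, point_eq_lift l'⟩
      rw [lift_snd, lift_snd] at hs
      subst hs
      obtain ⟨g, x, rfl⟩ : ∃ g x, m = lift g x := ⟨_, _, point_eq_lift m⟩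
      rw [ChGrp.lift_twist_act, ChGrp.lift_twist_act] at ha
      have h1 : h ≫ i = h' ≫ i := by simpa using congrArg (· ≫ fst G X) ha
      have h2 : lift g h = lift g h' := hQ.2.1.hom_ext (by simp) (by
        rw [lift_whiskerLeft_assoc, lift_whiskerLeft_assoc, h1])
      rw [show h = h' by simpa using congrArg (· ≫ snd G H) h2]
  · obtain ⟨R, hR, hl⟩ := (Groth.ChGrpH.hasLocSections (aQ.orbitMap q₀) hQ.2.2).exists_lift (fst Q X)
    refine isLocallyTrivialFor_of_exists (homogMap aX aQ q₀) hR fun U a ha => ?_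
    obtain ⟨g, hg⟩ := hl a ha
    refine ⟨lift g (lift g⁻¹ ((Over.homMk a : Over.mk (a ≫ (Q ⊗ X).hom) ⟶ Q ⊗ X) ≫ snd Q X) ≫ aX.act), ?_⟩
    rw [lift_homogMap, ← AlgGrp.Action.lift_mul_act, mul_inv_cancel, AlgGrp.Action.lift_one_act, hg, ← comp_lift,
      lift_fst_snd, Category.comp_id]

end Groth.QuotStkBal
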