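import Groth.Agent.QuotStk.QuotMap
import Groth.Agent.AlgStBasic.DiagOfAtlas
import Groth.Agent.SmoothSlice.Sections
import Groth.Agent.EtaleBase.FpqcDescent

/-!
# Quotient stacks by smooth groups: etale torsors are fppf torsors
-/

set_option autoImplicit false
set_option backward.isDefEq.respectTransparency false
set_option backward.isDefEq.respectTransparency.types false
universe u

open CategoryTheory CategoryTheory.Limits AlgebraicGeometry Opposite AlgSp MonoidalCategory CartesianMonoidalCategory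
open Groth.StkBase (IsVert)

namespace Groth.QuotStk

noncomputable section

variable {S : Scheme.{u}} {G X : Over S} [GrpObj G] {aX : AlgGrp.Action G X}

instance isAffineHom_isLocalAtTarget_fppf :
    MorphismProperty.IsLocalAtTarget @IsAffineHom.{u} Scheme.fppfPrecoverage :=
  Groth.AlgSpBasic.isLocalAtTarget_fppf _

/-- A smooth surjective morphism has sections etale locally. -/
theorem isLocallyTrivialFor_etale_of_smooth {T : Scheme.{u}} (P : Over T) [Smooth P.hom] [Surjective P.hom] :
    NonAbH1.IsLocallyTrivialFor Scheme.etalePrecoverage P := by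
  have hsec : ∀ t : T, ∃ (W : Scheme.{u}) (h : W ⟶ P.left) (w : W), Etale (h ≫ P.hom) ∧ (h ≫ P.hom) w = t :=
    fun t => by
      obtain ⟨x, rfl⟩ := P.hom.surjective t
      exact Groth.SmoothSlice.exists_etale_section (f := P.hom) x
  choose W h w hE hw using hsec
  refine ⟨Presieve.ofArrows W fun t => h t ≫ P.hom, ?_, ?_⟩
  · rw [Scheme.etalePrecoverage, Scheme.ofArrows_mem_precoverage_iff]
    exact ⟨fun t => ⟨t, w t, hw t⟩, hE⟩
  · rintro _ _ ⟨t⟩
    exact ⟨h t, rfl⟩

variable (aX) in
/-- Etale torsors as fppf torsors. -/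
def inclQuot : AlgSt.QuotSt Scheme.etalePrecoverage G aX ⥤ᵇ AlgSt.QuotSt Scheme.fppfPrecoverage G aX where
  toFunctor :=
    { obj := fun A => ⟨A.base, A.P, A.act, A.π, A.cart, by
          obtain ⟨R, hR, hs⟩ := A.loc
          exact ⟨R, Groth.AlgSpBoot.etalePrecoverage_le_fppfPrecoverage _ hR, hs⟩, A.φ, A.eqv⟩
      map := fun f => ⟨f.base, f.top, f.eqv, f.cart, f.wφ⟩
      map_id := fun _ => rfl
      map_comp := fun _ _ => rfl }
  w := rfl

theorem isEquivOver_inclQuot [Smooth G.hom] : FibCat.IsEquivOver (inclQuot aX) := by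
  refine Groth.StkBase.isEquivOver_of_fullyFaithful _ ⟨fun {A B} f => ⟨⟨f.base, f.top, f.eqv, f.cart, f.wφ⟩, rfl⟩⟩
    ⟨fun {A B} f g h => AlgSt.QuotObj.hom_ext (congrArg (fun m => m.base) h) (congrArg (fun m => m.top) h)⟩
    fun A => ?_
  exact ⟨⟨A.base, A.P, A.act, A.π, A.cart,
    @isLocallyTrivialFor_etale_of_smooth _ (Over.mk A.π.left) (prop_π @Smooth ‹_› A) (prop_π @Surjective surjective_hom A), A.φ, A.eqv⟩, Iso.refl _, rfl, rfl⟩

theorem inclQuot_quotMap :
    BasedFunctor.comp (BasedFunctor.comp (AlgSt.ofOverCat X) (AlgSt.quotMap Scheme.etalePrecoverage G aX))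
      (inclQuot aX) = atlas aX := rfl

theorem repWith_etaleAtlas [Smooth G.hom] {P : MorphismProperty (Sp S)}
    (h : AlgSt.RepByAlgSpWith P (atlas aX)) : AlgSt.RepByAlgSpWith P
      (BasedFunctor.comp (AlgSt.ofOverCat X) (AlgSt.quotMap Scheme.etalePrecoverage G aX)) :=
  (Groth.AlgStBasic.repWith_postcomp_equiv _ isEquivOver_inclQuot).1 (inclQuot_quotMap (aX := aX) ▸ h)

theorem repByAlgSpWith_affine_atlas [IsAffineHom G.hom] : AlgSt.RepByAlgSpWith IsAffineMor (atlas aX) :=
  repByAlgSpWith_atlas _ fun A U e => by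
    subst e
    rw [eqToHom_refl, Category.comp_id]
    exact Groth.AlgSpBasic.isAffineMor_iff_repWith.2
      ((repWith_yon_map_iff _ _).2 (prop_π @IsAffineHom ‹_› A))

theorem isStack_etale_quotSt [Smooth G.hom] [IsAffineHom G.hom] :
    Stk.IsStack (Groth.AlgSpBoot.Jet S) (AlgSt.QuotSt Scheme.etalePrecoverage G aX) := by
  refine (Groth.StkBase.isStack_iff_of_isEquivOver _ isEquivOver_inclQuot).2 ?_
  have h := isStack_quotSt aX
  refine ⟨h.1, fun U R hR => h.2 R ?_⟩
  rw [GrothendieckTopology.mem_over_iff] at hR ⊢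
  exact Precoverage.toGrothendieck_mono Groth.AlgSpBoot.etalePrecoverage_le_fppfPrecoverage _ hR

/-- The etale quotient stack by a smooth affine group scheme is algebraic. -/
theorem isAlgStack_etale_quotSt [Smooth G.hom] [IsAffineHom G.hom] :
    AlgSt.IsAlgStack Scheme.etalePrecoverage (AlgSt.QuotSt Scheme.etalePrecoverage G aX) :=
  Groth.AlgStBasic.isAlgStack_etale_of_hasAtlas isStack_etale_quotSt
    ⟨X, _, repWith_etaleAtlas (repByAlgSpWith_locP_atlas @Smooth ‹_›),
      repWith_etaleAtlas (repByAlgSpWith_surjective_atlas aX)⟩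

end

end Groth.QuotStk
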