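import Groth.Agent.StkQAff.Diag
import Groth.Agent.ArtinAtlas.QuotAtlas
import Groth.Agent.QuotStk.EtaleQuot
import Groth.Agent.AlgStBasic.SepRep
import Groth.Agent.StkBG.Diag

/-!
# The diagonal of a quotient stack by a flat affine group scheme (helper34)
-/

set_option autoImplicit false
set_option backward.isDefEq.respectTransparency false
set_option backward.isDefEq.respectTransparency.types false
set_option maxHeartbeats 1600000

universe u

open CategoryTheory CategoryTheory.Limits AlgebraicGeometry Opposite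
open Groth.StkBase Groth.AlgStBasic Groth.SpectralTopology

noncomputable section

namespace Groth.QuotStkDiag

variable {S : Scheme.{u}} {𝒳 : AlgSt.Cat S} {U : Over S}

/-- Over a product of charts the diagonal of a stack is a property if the chart and the diagonal of
the chart's scheme have it. -/
theorem repWith_diag_pullback (P : MorphismProperty Scheme.{u}) [P.IsStableUnderBaseChange]
    [P.IsStableUnderComposition] [P.ContainsIdentities] (h𝒳 : FibCat.IsFibGrpd 𝒳.p)
    (hd : AlgSt.RepByAlgSp1 (FibCat.diag (FibCat.toSelf 𝒳))) (x : FibCat.overCat U ⥤ᵇ 𝒳)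
    (hxP : AlgSt.RepByAlgSpWith (AlgSp.RepWith P) x) (hU : P (pullback.diagonal U.hom)) :
    AlgSt.RepByAlgSpWith (AlgSp.RepWith P)
      (FibCat.fpFst (fpPre x x (FibCat.toSelf 𝒳) (FibCat.toSelf 𝒳)) (FibCat.diag (FibCat.toSelf 𝒳))) := by
  have hU' : FibCat.IsFibGrpd (FibCat.overCat U).p := isFibGrpd_overCat U
  let t := FibCat.toSelf 𝒳
  refine (repWith_precomp_equiv (isEquivOver_diagFp' x x t) _).1 ?_
  let T := FibCat.fpFst (BasedFunctor.comp x t) (BasedFunctor.comp x t)
  have hT : AlgSt.RepByAlgSpWith (DiagWith P) T := by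
    let C := fpCongr (selfIso (BasedFunctor.comp x t) (FibCat.toSelf (FibCat.overCat U)))
      (selfIso (BasedFunctor.comp x t) (FibCat.toSelf (FibCat.overCat U)))
    exact repWith_of_iso (Iso.refl _) ((repWith_precomp_equiv (a := C) (isEquivOver_fpCongr _ _) _).2
      (Groth.QuotEt.repWith_diagWith_fpFst_prod U U P hU))
  refine repWith_of_comp_cancel' (g := T) (isFibGrpd_fp hU' hU' h𝒳)
    (isFibGrpd_fp hU' hU' isFibGrpd_selfOver) (stableBaseChange_repWith _)
    (stableBaseChange_diagWith P)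
    (fun _ _ _ _ _ _ a b hb hab => Groth.AlgSpBasic.repWith_of_comp_of_diagonal P hab hb)
    ((repByAlgSp1_precomp_iff (isEquivOver_diagFp' x x t) _).2 (repByAlgSp1_fpFst _ _ hd)) hT ?_
  exact repWith_of_iso (Iso.refl _) (repWith_fpFst x x hxP)

/-- Pairs of points of a stack lift fppf-locally to pairs of points of a flat chart. -/
theorem exists_lift_pairs (h𝒳 : FibCat.IsFibGrpd 𝒳.p) (x : FibCat.overCat U ⥤ᵇ 𝒳)
    (h₁ : AlgSt.RepByAlgSpWith (AlgSp.LocP @Flat) x)
    (h₂ : AlgSt.RepByAlgSpWith (AlgSp.LocP @LocallyOfFinitePresentation) x)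
    (h₃ : AlgSt.RepByAlgSpWith AlgSp.IsSurjectiveMor x) (V : Over S)
    (y : FibCat.overCat V ⥤ᵇ FibCat.fp (FibCat.toSelf 𝒳) (FibCat.toSelf 𝒳)) :
    ∃ R ∈ AlgSp.J S V, ∀ ⦃W : Over S⦄ (h : W ⟶ V), R.arrows h →
      ∃ z : FibCat.overCat W ⥤ᵇ FibCat.fp (BasedFunctor.comp x (FibCat.toSelf 𝒳))
          (BasedFunctor.comp x (FibCat.toSelf 𝒳)),
        Nonempty (BasedFunctor.comp z (fpPre x x (FibCat.toSelf 𝒳) (FibCat.toSelf 𝒳)) ≅
          BasedFunctor.comp (AlgSt.overMap h) y) :=
  have hU' : FibCat.IsFibGrpd (FibCat.overCat U).p := isFibGrpd_overCat U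
  exists_lift_of_fppf_surjective
    (repWith_fpPre hU' h𝒳 hU' isFibGrpd_selfOver stableBaseChange_locP stableComp_locP
      descendsAlongAtlas_locP x x _ _ h₁ h₁)
    (repWith_fpPre hU' h𝒳 hU' isFibGrpd_selfOver stableBaseChange_locP stableComp_locP
      descendsAlongAtlas_locP x x _ _ h₂ h₂)
    (repWith_fpPre hU' h𝒳 hU' isFibGrpd_selfOver stableBaseChange_surjective stableComp_surjective
      descendsAlongAtlas_surjective x x _ _ h₃ h₃) V y

theorem isLocalOnBase_fppf_repWith_affine :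
    AlgSp.IsLocalOnBase (AlgSp.IsFppfCover (S := S)) (AlgSp.RepWith @IsAffineHom) :=
  isAffineMor_eq (S := S) ▸ isLocalOnBase_fppf_of_fpqc Groth.AlgSp2.isLocalOnBase_fpqc_isAffineMor

/-- A stack with an affine fppf chart from a scheme with affine diagonal has affine diagonal. -/
theorem repWith_affine_diag_of_chart (h𝒳 : FibCat.IsFibGrpd 𝒳.p)
    (hd : AlgSt.RepByAlgSp1 (FibCat.diag (FibCat.toSelf 𝒳))) (x : FibCat.overCat U ⥤ᵇ 𝒳)
    (h₁ : AlgSt.RepByAlgSpWith (AlgSp.LocP @Flat) x)
    (h₂ : AlgSt.RepByAlgSpWith (AlgSp.LocP @LocallyOfFinitePresentation) x)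
    (h₃ : AlgSt.RepByAlgSpWith AlgSp.IsSurjectiveMor x)
    (hxa : AlgSt.RepByAlgSpWith (AlgSp.RepWith @IsAffineHom) x)
    (hU : IsAffineHom (pullback.diagonal U.hom)) :
    AlgSt.RepByAlgSpWith (AlgSp.RepWith @IsAffineHom) (FibCat.diag (FibCat.toSelf 𝒳)) :=
  repWith_of_locally (stableBaseChange_repWith _) isLocalOnBase_fppf_repWith_affine hd
    (g := fpPre x x (FibCat.toSelf 𝒳) (FibCat.toSelf 𝒳)) (fun V y => exists_lift_pairs h𝒳 x h₁ h₂ h₃ V y)
    (repWith_diag_pullback @IsAffineHom h𝒳 hd x hxa hU)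

/-- The same for quasi-affine morphisms. -/
theorem repWith_qa_diag_of_chart (h𝒳 : FibCat.IsFibGrpd 𝒳.p)
    (hd : AlgSt.RepByAlgSp1 (FibCat.diag (FibCat.toSelf 𝒳))) (x : FibCat.overCat U ⥤ᵇ 𝒳)
    (h₁ : AlgSt.RepByAlgSpWith (AlgSp.LocP @Flat) x)
    (h₂ : AlgSt.RepByAlgSpWith (AlgSp.LocP @LocallyOfFinitePresentation) x)
    (h₃ : AlgSt.RepByAlgSpWith AlgSp.IsSurjectiveMor x)
    (hxq : AlgSt.RepByAlgSpWith (AlgSp.RepWith quasiAffineHom) x)
    (hU : quasiAffineHom (pullback.diagonal U.hom)) :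
    AlgSt.RepByAlgSpWith (AlgSp.RepWith quasiAffineHom) (FibCat.diag (FibCat.toSelf 𝒳)) := by
  refine Groth.StkQAff.repWith_qa_of_locally hd fun V y => ?_
  obtain ⟨R, hR, hR'⟩ := exists_lift_pairs h𝒳 x h₁ h₂ h₃ V y
  refine ⟨R, hR, fun W h hh => ?_⟩
  obtain ⟨z, ⟨α⟩⟩ := hR' h hh
  let t := FibCat.toSelf 𝒳
  have h₀ : RepFst (AlgSp.RepWith quasiAffineHom) (FibCat.fpFst z
      (FibCat.fpFst (fpPre x x t t) (FibCat.diag t))) :=
    repWith_diag_pullback quasiAffineHom h𝒳 hd x hxq hU W z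
  exact RepFst.of_equiv (isEquivOver_comp
    (isEquivOver_fpPaste z (fpPre x x t t) (FibCat.diag t))
    (isEquivOver_fpCongr α (Iso.refl (FibCat.diag t)))) (Iso.refl _) h₀

/-- A compact scheme immersed in an affine one: quasi-compact immersions are quasi-affine. -/
theorem quasiAffineHom_of_isImmersion {A B : Scheme.{u}} (f : A ⟶ B) [IsImmersion f] [QuasiCompact f] :
    quasiAffineHom f := by
  refine ⟨inferInstance, fun V hV => ?_⟩
  have : IsAffine V.toScheme := hV
  have : CompactSpace (f ⁻¹ᵁ V : A.Opens).toScheme := isCompact_iff_compactSpace.1 (f.isCompact_preimage hV.isCompact)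
  exact Scheme.IsQuasiAffine.of_isImmersion (f ∣_ V)

/-- An affine morphism is quasi-affine. -/
theorem quasiAffineHom_of_isAffineHom {A B : Scheme.{u}} (f : A ⟶ B) [IsAffineHom f] : quasiAffineHom f := by
  refine ⟨inferInstance, fun V hV => ?_⟩
  have : IsAffine (f ⁻¹ᵁ V : A.Opens).toScheme := IsAffineHom.isAffine_preimage V hV
  exact inferInstance

/-- An affine diagonal of a stack and an affine chart give an affine diagonal of the scheme. -/
theorem isAffineHom_diagonal_of_chart (h𝒳 : FibCat.IsFibGrpd 𝒳.p) (x : FibCat.overCat U ⥤ᵇ 𝒳)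
    (hxa : AlgSt.RepByAlgSpWith (AlgSp.RepWith @IsAffineHom) x)
    (hΔ : AlgSt.RepByAlgSpWith (AlgSp.RepWith @IsAffineHom) (FibCat.diag (FibCat.toSelf 𝒳))) :
    IsAffineHom (pullback.diagonal U.hom) := by
  let P := AlgSp.RepWith (S := S) @IsAffineHom
  have hP : DescendsAlongAtlas P := descendsAlongAtlas_of_isLocalOnBase isLocalOnBase_fppf_repWith_affine
  have hx : AlgSt.RepByAlgSpWith P (FibCat.diag x) :=
    repWith_diag_of_repWith (stableBaseChange_repWith _) (fun X Y hX hY q hq => by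
      have hs : AlgSp.RepWith @IsClosedImmersion (pullback.diagonal q) :=
        (Groth.AlgSpBasic.repWith_diagonal_iff_of_representable @IsClosedImmersion @IsSeparated
          (fun _ _ g => isSeparated_iff g) hq.rep).2
          (Groth.AlgSpBasic.repWith_mono (fun _ _ f (_ : IsAffineHom f) => (inferInstance : IsSeparated f)) hq)
      exact Groth.AlgSpBasic.repWith_mono (fun _ _ j (_ : IsClosedImmersion j) =>
        (inferInstance : IsAffineHom j)) hs) hxa
  have hc : AlgSt.RepByAlgSpWith P (FibCat.diag (FibCat.toSelf (FibCat.overCat U : AlgSt.Cat S))) :=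
    repWith_diag_of_iso (selfIso _ _)
      (repWith_diag_comp (isFibGrpd_overCat U) h𝒳 (stableBaseChange_repWith _) (stableComp_repWith _) hP hx hΔ)
  let q : (AlgSp.yon S).obj U ⟶ (AlgSp.yon S).obj (Over.mk (𝟙 S)) :=
    (AlgSp.yon S).map (Over.mkIdTerminal.from U)
  have hT : ∀ W, Nonempty (Unique (((AlgSp.pyon S).obj (Over.mk (𝟙 S))).obj W)) := fun W =>
    ⟨{ default := ⟨Over.mkIdTerminal.from W.unop⟩,
       uniq := fun t => ULift.ext _ _ (Over.mkIdTerminal.hom_ext _ _) }⟩
  obtain ⟨e', he', -, ⟨ε⟩⟩ := isEquivOver_symm (isEquivOver_toSelf_ofPsh_of_unique _ hT)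
  have h1 := repWith_diag_postcomp_equiv he'
    (repWith_diag_precomp_equiv (isEquivOver_toOverCat U) hc)
  have h2 : AlgSt.RepByAlgSpWith P (FibCat.diag (AlgSt.ofSpMap q)) :=
    repWith_diag_of_iso (Groth.StkBG.isoOfToSelf (isEquivOver_toSelf_ofPsh_of_unique _ hT) _ _) h1
  have h3 : AlgSp.RepWith @IsAffineHom (pullback.diagonal q) :=
    (repWith_diag_ofSpMap_iff (stableBaseChange_repWith _) (X := ⟨_, AlgSp.IsAlgSpace.yon_obj U⟩)
      (Y := ⟨_, AlgSp.IsAlgSpace.yon_obj _⟩) q).2 hP h2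
  have e : (Over.mkIdTerminal.from U).left = U.hom := Over.mkIdTerminal_from_left U
  have h4 := diagonal_of_repWith_yon_map _ _ h3
  revert h4
  generalize (Over.mkIdTerminal.from U).left = f at e
  subst e
  exact id
where
  /-- converse of `repWith_diagonal_yon_map` -/
  diagonal_of_repWith_yon_map {A B : Over S} (g : A ⟶ B) (P : MorphismProperty Scheme.{u})
      [P.IsStableUnderBaseChange] (h : AlgSp.RepWith P (pullback.diagonal ((AlgSp.yon S).map g))) :
      P (pullback.diagonal g.left) := by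
    let D : Over S := Over.mk (pullback.fst g.left g.left ≫ A.hom)
    let p₁ : D ⟶ A := Over.homMk (pullback.fst g.left g.left) rfl
    let p₂ : D ⟶ A := Over.homMk (pullback.snd g.left g.left) (by
      show pullback.snd g.left g.left ≫ A.hom = pullback.fst g.left g.left ≫ A.hom
      rw [← Over.w g, ← pullback.condition_assoc])
    let δ : A ⟶ D := Over.homMk (pullback.diagonal g.left) (by simp [D])
    have sqD : IsPullback p₁ p₂ g g := IsPullback.of_map (Over.forget S)
      (Over.OverMorphism.ext pullback.condition) (IsPullback.of_hasPullback g.left g.left)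
    have sqY := sqD.map (AlgSp.yon S)
    have e : (AlgSp.yon S).map δ ≫ sqY.isoPullback.hom = pullback.diagonal ((AlgSp.yon S).map g) := by
      apply pullback.hom_ext
      · rw [Category.assoc, sqY.isoPullback_hom_fst, pullback.diagonal_fst, ← Functor.map_comp,
          show δ ≫ p₁ = 𝟙 A from Over.OverMorphism.ext (pullback.diagonal_fst _),
          CategoryTheory.Functor.map_id]
      · rw [Category.assoc, sqY.isoPullback_hom_snd, pullback.diagonal_snd, ← Functor.map_comp,
          show δ ≫ p₂ = 𝟙 A from Over.OverMorphism.ext (pullback.diagonal_snd _),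
          CategoryTheory.Functor.map_id]
    have : P.RespectsIso := MorphismProperty.IsStableUnderBaseChange.respectsIso
    refine (AlgSp.repWith_yon_map_iff P δ).1 (Groth.AlgSpBasic.repWith_of_isPullback
      (IsPullback.of_horiz_isIso (fst := 𝟙 _) (g := sqY.isoPullback.hom) ⟨?_⟩) h)
    rw [e, Category.id_comp]

section Quot

variable {G X : Over S} [GrpObj G] [IsAffineHom G.hom] [Flat G.hom] [LocallyOfFinitePresentation G.hom]
  (aX : AlgGrp.Action G X)

theorem diag_quot_affine_iff :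
    AlgSt.RepByAlgSpWith AlgSp.IsAffineMor (FibCat.diag (FibCat.toSelf (AlgSt.QuotSt Scheme.fppfPrecoverage G aX))) ↔
      IsAffineHom (pullback.diagonal X.hom) := by
  have : MorphismProperty.IsLocalAtTarget @LocallyOfFinitePresentation.{u} Scheme.fppfPrecoverage :=
    Groth.AlgSpBasic.EtaleLocal.localAtTarget
  have h := Groth.ArtinAtlas.isAlgStack_quotSt aX
  have hxa : AlgSt.RepByAlgSpWith (AlgSp.RepWith @IsAffineHom) (Groth.QuotStk.atlas aX) :=
    isAffineMor_eq (S := S) ▸ Groth.QuotStk.repByAlgSpWith_affine_atlas (aX := aX)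
  rw [isAffineMor_eq]
  exact ⟨fun hΔ => isAffineHom_diagonal_of_chart h.isStack.1 _ hxa hΔ,
    fun hX => repWith_affine_diag_of_chart h.isStack.1 h.diag _
      (Groth.QuotStk.repByAlgSpWith_locP_atlas @Flat ‹_›)
      (Groth.QuotStk.repByAlgSpWith_locP_atlas @LocallyOfFinitePresentation ‹_›)
      (Groth.QuotStk.repByAlgSpWith_surjective_atlas aX) hxa hX⟩

theorem diag_quot_quasiAffine [QuasiSeparated X.hom] :
    AlgSt.RepByAlgSpWith AlgSp.IsQuasiAffineMor
      (FibCat.diag (FibCat.toSelf (AlgSt.QuotSt Scheme.fppfPrecoverage G aX))) := by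
  have : MorphismProperty.IsLocalAtTarget @LocallyOfFinitePresentation.{u} Scheme.fppfPrecoverage :=
    Groth.AlgSpBasic.EtaleLocal.localAtTarget
  have h := Groth.ArtinAtlas.isAlgStack_quotSt aX
  have hxa : AlgSt.RepByAlgSpWith (AlgSp.RepWith quasiAffineHom) (Groth.QuotStk.atlas aX) :=
    repWith_mono (fun _ _ φ _ _ hφ => Groth.AlgSpBasic.repWith_mono
      (fun _ _ f (_ : IsAffineHom f) => quasiAffineHom_of_isAffineHom f) hφ)
      (isAffineMor_eq (S := S) ▸ Groth.QuotStk.repByAlgSpWith_affine_atlas (aX := aX))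
  exact repWith_mono (fun _ _ φ _ _ hφ => Groth.StkQAff.isQuasiAffineMor_iff_repWith.2 hφ)
    (repWith_qa_diag_of_chart h.isStack.1 h.diag _
      (Groth.QuotStk.repByAlgSpWith_locP_atlas @Flat ‹_›)
      (Groth.QuotStk.repByAlgSpWith_locP_atlas @LocallyOfFinitePresentation ‹_›)
      (Groth.QuotStk.repByAlgSpWith_surjective_atlas aX) hxa (quasiAffineHom_of_isImmersion _))

end Quot

end Groth.QuotStkDiag
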