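import Groth.Agent.AlgSpBasic.OpenSub
import Groth.Agent.AlgSpBasic.Topology
import Groth.Prelude.Def_AlgSt

/-!
# Gluing sheaves over representable sheaves
-/

set_option autoImplicit false
set_option backward.isDefEq.respectTransparency false
set_option backward.isDefEq.respectTransparency.types false
universe u

open CategoryTheory CategoryTheory.Limits AlgebraicGeometry Opposite AlgSp
open Groth.AlgSpBasic (yEquiv)

namespace Groth.QuotStk

noncomputable section

variable {S : Scheme.{u}} {P Q : Sp S} {U : Over S}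

/-- A morphism of sheaves from a natural map on points. -/
def mkHom (a : ∀ ⦃T : Over S⦄, ((yon S).obj T ⟶ P) → ((yon S).obj T ⟶ Q))
    (ha : ∀ ⦃T T' : Over S⦄ (k : T' ⟶ T) (x : (yon S).obj T ⟶ P),
      a ((yon S).map k ≫ x) = (yon S).map k ≫ a x) : P ⟶ Q :=
  ObjectProperty.homMk
    { app := fun T => TypeCat.ofHom fun p => yEquiv (a (T := T.unop) (yEquiv.symm p))
      naturality := fun T T' f => by
        ext p
        show yEquiv (a (yEquiv.symm (P.obj.map f p))) = Q.obj.map f (yEquiv (a (yEquiv.symm p)))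
        have h₁ : yEquiv.symm (P.obj.map f p) = (yon S).map f.unop ≫ yEquiv.symm p :=
          ((J S).uliftYonedaEquiv_symm_naturality_left f.unop P p).symm
        rw [h₁, ha]
        exact ((J S).uliftYonedaEquiv_naturality (a (yEquiv.symm p)) f.unop).symm }

theorem comp_mkHom (a : ∀ ⦃T : Over S⦄, ((yon S).obj T ⟶ P) → ((yon S).obj T ⟶ Q))
    (ha : ∀ ⦃T T' : Over S⦄ (k : T' ⟶ T) (x : (yon S).obj T ⟶ P),
      a ((yon S).map k ≫ x) = (yon S).map k ≫ a x) {T : Over S} (x : (yon S).obj T ⟶ P) :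
    x ≫ mkHom a ha = a x := by
  apply yEquiv.injective
  refine ((J S).uliftYonedaEquiv_comp x _).trans ?_
  show yEquiv (a (yEquiv.symm (yEquiv x))) = _
  rw [Equiv.symm_apply_apply]

/-- Morphisms of sheaves agreeing on points are equal. -/
theorem hom_ext_points {a b : P ⟶ Q} (h : ∀ ⦃T : Over S⦄ (x : (yon S).obj T ⟶ P), x ≫ a = x ≫ b) :
    a = b := by
  apply Sheaf.hom_ext
  ext T p
  have := congrArg yEquiv (h (T := T.unop) (yEquiv.symm p))
  rw [(J S).uliftYonedaEquiv_comp _ a, (J S).uliftYonedaEquiv_comp _ b, Equiv.apply_symm_apply] at this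
  exact this

/-- Points of a sheaf agreeing on a covering sieve are equal. -/
theorem point_ext {T : Over S} {R : Sieve T} (hR : R ∈ J S T) {x y : (yon S).obj T ⟶ Q}
    (h : ∀ ⦃V : Over S⦄ (k : V ⟶ T), R k → (yon S).map k ≫ x = (yon S).map k ≫ y) : x = y := by
  apply yEquiv.injective
  refine Presieve.IsSeparatedFor.ext
    (((isSheaf_iff_isSheaf_of_type _ _).1 Q.property) R hR).isSeparatedFor fun V k hk => ?_
  have := congrArg yEquiv (h k hk)
  rw [← (J S).uliftYonedaEquiv_naturality x k, ← (J S).uliftYonedaEquiv_naturality y k] at this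
  exact this

/-- Compatible points on a covering sieve glue. -/
theorem point_glue {T : Over S} {R : Sieve T} (hR : R ∈ J S T)
    (m : ∀ ⦃V : Over S⦄ (k : V ⟶ T), R k → ((yon S).obj V ⟶ Q))
    (hm : ∀ ⦃V V' : Over S⦄ (k : V ⟶ T) (hk : R k) (l : V' ⟶ V) (hlk : R (l ≫ k)),
      m (l ≫ k) hlk = (yon S).map l ≫ m k hk) :
    ∃ x : (yon S).obj T ⟶ Q, ∀ ⦃V : Over S⦄ (k : V ⟶ T) (hk : R k), (yon S).map k ≫ x = m k hk := by
  have H := ((isSheaf_iff_isSheaf_of_type _ _).1 Q.property) R hR
  let fam : Presieve.FamilyOfElements Q.obj R.arrows := fun V k hk => yEquiv (m k hk)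
  have hfam : fam.Compatible := by
    rw [Presieve.compatible_iff_sieveCompatible]
    intro V V' k l hk
    show yEquiv (m (l ≫ k) _) = Q.obj.map l.op (yEquiv (m k hk))
    rw [hm k hk l, (J S).uliftYonedaEquiv_naturality]
  refine ⟨yEquiv.symm (H.amalgamate fam hfam), fun V k hk => ?_⟩
  apply yEquiv.injective
  rw [← (J S).uliftYonedaEquiv_naturality, Equiv.apply_symm_apply]
  exact H.valid_glue hfam k hk

variable (π : P ⟶ (yon S).obj U) {R : Sieve U} (hR : R ∈ J S U)

/-- The morphism of schemes under a point. -/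
def baseOf {T : Over S} (x : (yon S).obj T ⟶ P) : T ⟶ U := (yon S).preimage (x ≫ π)

theorem map_baseOf {T : Over S} (x : (yon S).obj T ⟶ P) : (yon S).map (baseOf π x) = x ≫ π :=
  (yon S).map_preimage _

theorem baseOf_comp {T T' : Over S} (k : T' ⟶ T) (x : (yon S).obj T ⟶ P) :
    baseOf π ((yon S).map k ≫ x) = k ≫ baseOf π x := by
  apply (yon S).map_injective
  rw [Functor.map_comp, map_baseOf, map_baseOf, Category.assoc]

include hR in
/-- Morphisms out of a sheaf over `h_U` are determined locally on `U`. -/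
theorem hom_ext_over {a b : P ⟶ Q}
    (h : ∀ ⦃T : Over S⦄ (x : (yon S).obj T ⟶ P), R (baseOf π x) → x ≫ a = x ≫ b) : a = b := by
  refine hom_ext_points fun T x => point_ext ((J S).pullback_stable (baseOf π x) hR) fun V k hk => ?_
  rw [← Category.assoc, ← Category.assoc]
  exact h _ (by rw [baseOf_comp]; exact hk)

include hR in
/-- Morphisms out of a sheaf over `h_U` glue. -/
theorem hom_glue_over (m : ∀ ⦃T : Over S⦄ (x : (yon S).obj T ⟶ P), R (baseOf π x) → ((yon S).obj T ⟶ Q))
    (hm : ∀ ⦃T T' : Over S⦄ (k : T' ⟶ T) (x : (yon S).obj T ⟶ P) (hx : R (baseOf π x))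
      (hkx : R (baseOf π ((yon S).map k ≫ x))), m ((yon S).map k ≫ x) hkx = (yon S).map k ≫ m x hx) :
    ∃ a : P ⟶ Q, ∀ ⦃T : Over S⦄ (x : (yon S).obj T ⟶ P) (hx : R (baseOf π x)), x ≫ a = m x hx := by
  have hex : ∀ ⦃T : Over S⦄ (x : (yon S).obj T ⟶ P), ∃ y : (yon S).obj T ⟶ Q,
      ∀ ⦃V : Over S⦄ (k : V ⟶ T) (hk : R (baseOf π ((yon S).map k ≫ x))),
        (yon S).map k ≫ y = m _ hk := by
    intro T x
    obtain ⟨y, hy⟩ := point_glue ((J S).pullback_stable (baseOf π x) hR)
      (fun V k hk => m ((yon S).map k ≫ x) (by rw [baseOf_comp]; exact hk))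
      (fun V V' k hk l hlk => by
        have e : (yon S).map (l ≫ k) ≫ x = (yon S).map l ≫ (yon S).map k ≫ x := by
          rw [Functor.map_comp, Category.assoc]
        have h₁ : R (baseOf π ((yon S).map l ≫ (yon S).map k ≫ x)) := by
          rw [← e, baseOf_comp]; exact hlk
        rw [← hm l _ (by rw [baseOf_comp]; exact hk) h₁]
        congr 1)
    exact ⟨y, fun V k hk => hy k (by rw [baseOf_comp] at hk; exact hk)⟩
  choose y hy using hex
  have hmc : ∀ ⦃T : Over S⦄ (x x' : (yon S).obj T ⟶ P) (h : R (baseOf π x)) (h' : R (baseOf π x')),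
      x = x' → m x h = m x' h' := by
    rintro T x _ h h' rfl
    rfl
  have hnat : ∀ ⦃T T' : Over S⦄ (k : T' ⟶ T) (x : (yon S).obj T ⟶ P),
      y ((yon S).map k ≫ x) = (yon S).map k ≫ y x := fun T T' k x => by
    refine point_ext ((J S).pullback_stable (baseOf π ((yon S).map k ≫ x)) hR) fun V l hl => ?_
    have hl' : R (baseOf π ((yon S).map (l ≫ k) ≫ x)) := by
      rw [Functor.map_comp, Category.assoc, baseOf_comp]; exact hl
    have h₁ : R (baseOf π ((yon S).map l ≫ (yon S).map k ≫ x)) := by rw [baseOf_comp]; exact hl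
    have e : (yon S).map l ≫ (yon S).map k ≫ x = (yon S).map (l ≫ k) ≫ x :=
      ((congrArg (· ≫ x) ((yon S).map_comp l k)).trans (Category.assoc _ _ _)).symm
    refine (hy _ l h₁).trans (((hmc _ _ h₁ hl' e).trans (hy x _ hl').symm).trans ?_)
    exact (congrArg (· ≫ y x) ((yon S).map_comp l k)).trans (Category.assoc _ _ _)
  refine ⟨mkHom y hnat, fun T x hx => ?_⟩
  rw [comp_mkHom]
  have e : (yon S).map (𝟙 T) ≫ x = x := by rw [CategoryTheory.Functor.map_id, Category.id_comp]
  have h₀ : R (baseOf π ((yon S).map (𝟙 T) ≫ x)) := by rw [e]; exact hx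
  refine Eq.trans ?_ ((hy x (𝟙 T) h₀).trans (hmc _ _ h₀ hx e))
  rw [CategoryTheory.Functor.map_id, Category.id_comp]

end

end Groth.QuotStk
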