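import Groth.Agent.QuotStk.Glue

/-!
# Gluing sheaves over the members of a covering sieve of a representable sheaf
-/

set_option autoImplicit false
set_option backward.isDefEq.respectTransparency false
set_option backward.isDefEq.respectTransparency.types false
universe u

open CategoryTheory CategoryTheory.Limits AlgebraicGeometry Opposite AlgSp
open Groth.AlgSpBasic (yEquiv isPullback_of_lifts)

namespace Groth.QuotStk

noncomputable section

variable {S : Scheme.{u}} {U : Over S} {R : Sieve U}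

/-- Sheaves over the members of a sieve with cartesian transition maps. -/
structure SheafDD (R : Sieve U) where
  /-- the sheaf over a member -/
  P : (Stk.sieveCat R).obj → Sp S
  /-- its structure map -/
  π : ∀ z, P z ⟶ (yon S).obj z.obj.left
  /-- the transition maps -/
  τ : ∀ ⦃z z' : (Stk.sieveCat R).obj⦄, (z ⟶ z') → (P z ⟶ P z')
  cart : ∀ ⦃z z' : (Stk.sieveCat R).obj⦄ (t : z ⟶ z'),
    IsPullback (τ t) (π z) (π z') ((yon S).map t.hom.left)
  τ_comp : ∀ ⦃z z' z'' : (Stk.sieveCat R).obj⦄ (t : z ⟶ z') (t' : z' ⟶ z''), τ (t ≫ t') = τ t ≫ τ t'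

variable (D : SheafDD R)

theorem SheafDD.comp_τ {X : Sp S} {z z' z'' : (Stk.sieveCat R).obj} (a : X ⟶ D.P z) (t : z ⟶ z')
    (t' : z' ⟶ z'') : (a ≫ D.τ t) ≫ D.τ t' = a ≫ D.τ (t ≫ t') := by
  rw [Category.assoc, D.τ_comp]

theorem SheafDD.comp_π {X : Sp S} {z z' : (Stk.sieveCat R).obj} (a : X ⟶ D.P z) (t : z ⟶ z') :
    (a ≫ D.τ t) ≫ D.π z' = (a ≫ D.π z) ≫ (yon S).map t.hom.left := by
  rw [Category.assoc, (D.cart t).w, Category.assoc]

/-- A point of the glued sheaf. -/
structure GluePt (T : Over S) where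
  /-- the point below -/
  f : T ⟶ U
  /-- the sections over the members -/
  s : ∀ (z : (Stk.sieveCat R).obj) (g : z.obj.left ⟶ T), g ≫ f = z.obj.hom →
    ((yon S).obj z.obj.left ⟶ D.P z)
  hs : ∀ z g h, s z g h ≫ D.π z = 𝟙 _
  hnat : ∀ ⦃z z' : (Stk.sieveCat R).obj⦄ (t : z ⟶ z') (g : z'.obj.left ⟶ T) (h : g ≫ f = z'.obj.hom)
    (h' : (t.hom.left ≫ g) ≫ f = z.obj.hom), s z (t.hom.left ≫ g) h' ≫ D.τ t = (yon S).map t.hom.left ≫ s z' g h

variable {D}

theorem GluePt.ext' {T : Over S} {a b : GluePt D T} (h₁ : a.f = b.f)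
    (h₂ : ∀ z g h h', a.s z g h = b.s z g h') : a = b := by
  obtain ⟨f, s, hs, hn⟩ := a
  obtain ⟨f', s', hs', hn'⟩ := b
  obtain rfl : f = f' := h₁
  obtain rfl : s = s' := by
    funext z g h
    exact h₂ z g h h
  rfl

/-- Restriction of points. -/
def GluePt.res {T T' : Over S} (k : T' ⟶ T) (a : GluePt D T) : GluePt D T' where
  f := k ≫ a.f
  s z g h := a.s z (g ≫ k) (by rw [Category.assoc, h])
  hs z g h := a.hs _ _ _
  hnat z z' t g h h' := by
    have := a.hnat t (g ≫ k) (by rw [Category.assoc, h]) (by rw [Category.assoc, Category.assoc, ← h', Category.assoc])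
    simpa only [Category.assoc] using this

theorem GluePt.s_congr {T : Over S} (a : GluePt D T) {z : (Stk.sieveCat R).obj} {g g' : z.obj.left ⟶ T}
    (e : g = g') (h : g ≫ a.f = z.obj.hom) (h' : g' ≫ a.f = z.obj.hom) : a.s z g h = a.s z g' h' := by
  subst e; rfl

variable (D)

/-- The presheaf of points of the glued sheaf. -/
def gluePsh : (Over S)ᵒᵖ ⥤ Type (u + 1) where
  obj T := GluePt D T.unop
  map k := TypeCat.ofHom fun a => a.res k.unop
  map_id T := by
    ext a
    exact GluePt.ext' (Category.id_comp _) fun z g h h' => a.s_congr (Category.comp_id g) _ _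
  map_comp k k' := by
    ext a
    exact GluePt.ext' (Category.assoc _ _ _) fun z g h h' => a.s_congr (Category.assoc _ _ _).symm _ _

theorem gluePsh_isSheaf : Presheaf.IsSheaf (J S) (gluePsh D) := by
  rw [isSheaf_iff_isSheaf_of_type]
  intro T C hC
  rw [← Presieve.isSeparatedFor_and_exists_isAmalgamation_iff_isSheafFor]
  constructor
  · intro x a b ha hb
    have hf : a.f = b.f := by
      apply (yon S).map_injective
      refine point_ext hC fun V k hk => ?_
      have := congrArg GluePt.f ((ha k hk).trans (hb k hk).symm)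
      change k ≫ a.f = k ≫ b.f at this
      rw [← Functor.map_comp, ← Functor.map_comp, this]
    refine GluePt.ext' hf fun z g h h' => point_ext ((J S).pullback_stable g hC) fun V k hk => ?_
    let z' : (Stk.sieveCat R).obj := ⟨Over.mk (k ≫ z.obj.hom), R.downward_closed z.property _⟩
    let t : z' ⟶ z := ObjectProperty.homMk (Over.homMk k rfl)
    have e₁ := (ha _ hk).trans (hb _ hk).symm
    change a.res (k ≫ g) = b.res (k ≫ g) at e₁
    have h₁ : (t.hom.left ≫ g) ≫ a.f = z'.obj.hom := by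
      show (k ≫ g) ≫ a.f = k ≫ z.obj.hom
      rw [Category.assoc, h]
    have h₂ : (t.hom.left ≫ g) ≫ b.f = z'.obj.hom := hf ▸ h₁
    have e₂ : a.s z' (t.hom.left ≫ g) h₁ = b.s z' (t.hom.left ≫ g) h₂ := by
      have key : ∀ (p q : GluePt D V), p = q → ∀ hp hq, p.s z' (𝟙 _) hp = q.s z' (𝟙 _) hq := by
        rintro p _ rfl hp hq
        rfl
      have := key _ _ e₁ (by show 𝟙 V ≫ (k ≫ g) ≫ a.f = k ≫ z.obj.hom; rw [Category.id_comp, Category.assoc, h])
        (by show 𝟙 V ≫ (k ≫ g) ≫ b.f = k ≫ z.obj.hom; rw [Category.id_comp, ← hf, Category.assoc, h])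
      exact (a.s_congr (Category.id_comp _).symm _ _).trans (this.trans (b.s_congr (Category.id_comp _) _ _))
    show (yon S).map t.hom.left ≫ a.s z g h = (yon S).map t.hom.left ≫ b.s z g h'
    rw [← a.hnat t g h h₁, ← b.hnat t g h' h₂, e₂]
  · intro x hx
    rw [Presieve.compatible_iff_sieveCompatible] at hx
    obtain ⟨fT, hfT⟩ := point_glue (Q := (yon S).obj U) hC (fun V k hk => (yon S).map (x k hk).f)
      (fun V V' k hk l hlk => by
        rw [hx k l hk]
        exact (yon S).map_comp l _)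
    obtain ⟨f, rfl⟩ := (yon S).map_surjective fT
    have hf : ∀ ⦃V : Over S⦄ (k : V ⟶ T) (hk : C k), k ≫ f = (x k hk).f := fun V k hk =>
      (yon S).map_injective (by rw [Functor.map_comp]; exact hfT k hk)
    have hxc : ∀ ⦃V V' : Over S⦄ (k : V ⟶ T) (hk : C k) (l : V' ⟶ V) (k' : V' ⟶ T) (hk' : C k'),
        l ≫ k = k' → ∀ z g h h', (x k' hk').s z g h = (x k hk).s z (g ≫ l) h' := by
      rintro V V' k hk l _ hk' rfl
      have key : ∀ (p q : GluePt D V'), p = q → ∀ z g hp hq, p.s z g hp = q.s z g hq := by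
        rintro p _ rfl z g hp hq
        rfl
      intro z g h h'
      exact key _ ((x k hk).res l) (hx k l hk) z g h (by show g ≫ l ≫ (x k hk).f = _; rw [← Category.assoc, h'])
    have hd : ∀ (z : (Stk.sieveCat R).obj) (g : z.obj.left ⟶ T), g ≫ f = z.obj.hom →
        ∃ σ : (yon S).obj z.obj.left ⟶ D.P z, ∀ ⦃V : Over S⦄ (k : V ⟶ z.obj.left) (hk : C (k ≫ g))
          (z' : (Stk.sieveCat R).obj) (t : z' ⟶ z) (e : z'.obj.left ⟶ V), e ≫ k = t.hom.left →
            ∀ h', (yon S).map t.hom.left ≫ σ = (x (k ≫ g) hk).s z' e h' ≫ D.τ t := by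
      intro z g hg
      let zk : ∀ ⦃V : Over S⦄ (_ : V ⟶ z.obj.left), (Stk.sieveCat R).obj := fun V k =>
        ⟨Over.mk (k ≫ z.obj.hom), R.downward_closed z.property _⟩
      let tk : ∀ ⦃V : Over S⦄ (k : V ⟶ z.obj.left), zk k ⟶ z := fun V k =>
        ObjectProperty.homMk (Over.homMk k rfl)
      have hk' : ∀ ⦃V : Over S⦄ (k : V ⟶ z.obj.left) (hk : C (k ≫ g)),
          𝟙 V ≫ (x (k ≫ g) hk).f = (zk k).obj.hom := fun V k hk => by
        rw [Category.id_comp, ← hf, Category.assoc, hg]; rfl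
      obtain ⟨σ, hσ⟩ := point_glue (Q := D.P z) ((J S).pullback_stable g hC)
        (fun V k hk => (x (k ≫ g) hk).s (zk k) (𝟙 V) (hk' k hk) ≫ D.τ (tk k))
        (fun V V' k hk l hlk => by
          let t : zk (l ≫ k) ⟶ zk k := ObjectProperty.homMk (Over.homMk l (Category.assoc _ _ _).symm)
          have h₀ : (t.hom.left ≫ 𝟙 V) ≫ (x (k ≫ g) hk).f = (zk (l ≫ k)).obj.hom := by
            show (l ≫ 𝟙 V) ≫ (x (k ≫ g) hk).f = (l ≫ k) ≫ z.obj.hom
            rw [Category.comp_id, ← hf, Category.assoc, Category.assoc, hg]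
          have e := (x (k ≫ g) hk).hnat t (𝟙 V) (hk' k hk) h₀
          have ht : tk (l ≫ k) = t ≫ tk k := ObjectProperty.hom_ext _ (Over.OverMorphism.ext rfl)
          refine Eq.trans ?_ ((congrArg (· ≫ D.τ (tk k)) e).trans (Category.assoc _ _ _))
          refine Eq.trans ?_ (D.comp_τ _ t (tk k)).symm
          refine congrArg₂ (· ≫ ·) ?_ (congrArg (fun s => D.τ s) ht)
          refine (hxc (k ≫ g) hk l ((l ≫ k) ≫ g) hlk (Category.assoc _ _ _).symm _ _ (hk' (l ≫ k) hlk)
            (by show (𝟙 V' ≫ l) ≫ _ = _; rw [Category.id_comp]; exact (congrArg (· ≫ _) (Category.comp_id l)).symm.trans h₀)).trans ?_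
          exact GluePt.s_congr _ (by show 𝟙 V' ≫ l = l ≫ 𝟙 V; simp) _ _)
      refine ⟨σ, fun V k hk z' t e he h' => ?_⟩
      have hk₀ : C (k ≫ g) := hk
      refine ((congrArg (· ≫ σ) ((congrArg (yon S).map he.symm).trans ((yon S).map_comp e k))).trans
        (Category.assoc _ _ _)).trans ((congrArg ((yon S).map e ≫ ·) (hσ k hk₀)).trans ?_)
      let t' : z' ⟶ zk k := ObjectProperty.homMk (Over.homMk e (by
        show e ≫ k ≫ z.obj.hom = z'.obj.hom
        rw [← Category.assoc, he]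
        exact Over.w t.hom))
      have h₀ : (t'.hom.left ≫ 𝟙 V) ≫ (x (k ≫ g) hk).f = z'.obj.hom := by
        show (e ≫ 𝟙 V) ≫ _ = _
        rw [Category.comp_id]; exact h'
      have e₂ := (x (k ≫ g) hk).hnat t' (𝟙 V) (hk' k hk) h₀
      have ht : t = t' ≫ tk k := ObjectProperty.hom_ext _ (Over.OverMorphism.ext he.symm)
      refine ((Category.assoc _ _ _).symm.trans (congrArg (· ≫ D.τ (tk k)) e₂.symm)).trans ?_
      exact (D.comp_τ _ t' (tk k)).trans
        (congrArg₂ (· ≫ ·) (GluePt.s_congr _ (Category.comp_id e) _ _) (congrArg (fun s => D.τ s) ht.symm))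
    choose σ hσ using hd
    let zk : ∀ (z : (Stk.sieveCat R).obj) ⦃V : Over S⦄ (_ : V ⟶ z.obj.left), (Stk.sieveCat R).obj :=
      fun z V k => ⟨Over.mk (k ≫ z.obj.hom), R.downward_closed z.property _⟩
    have hxf : ∀ (z : (Stk.sieveCat R).obj) (g : z.obj.left ⟶ T) (_ : g ≫ f = z.obj.hom)
        ⦃V : Over S⦄ (k : V ⟶ z.obj.left) (hk : C (k ≫ g)),
        𝟙 V ≫ (x (k ≫ g) hk).f = (zk z k).obj.hom := fun z g hg V k hk => by
      rw [Category.id_comp, ← hf, Category.assoc, hg]; rfl
    refine ⟨⟨f, σ, fun z g h => ?_, fun z z' t g h h' => ?_⟩, fun V k hk => ?_⟩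
    · refine point_ext ((J S).pullback_stable g hC) fun V k hk => ?_
      let tk : zk z k ⟶ z := ObjectProperty.homMk (Over.homMk k rfl)
      have e : (yon S).map k ≫ σ z g h = _ :=
        hσ z g h k hk (zk z k) tk (𝟙 V) (Category.id_comp k) (hxf z g h k hk)
      rw [← Category.assoc, e, Category.assoc, (D.cart tk).w, ← Category.assoc, (x _ hk).hs]
      exact (Category.id_comp _).trans (Category.comp_id _).symm
    · refine point_ext ((J S).pullback_stable (t.hom.left ≫ g) hC) fun V k hk => ?_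
      let tk : zk z k ⟶ z := ObjectProperty.homMk (Over.homMk k rfl)
      have hk₂ : C ((k ≫ t.hom.left) ≫ g) := by rw [Category.assoc]; exact hk
      have e₁ : (yon S).map k ≫ σ z (t.hom.left ≫ g) h' = _ :=
        hσ z _ h' k hk (zk z k) tk (𝟙 V) (Category.id_comp k) (hxf z _ h' k hk)
      have hw : 𝟙 V ≫ (x ((k ≫ t.hom.left) ≫ g) hk₂).f = (zk z k).obj.hom := by
        rw [Category.id_comp, ← hf]
        show ((k ≫ t.hom.left) ≫ g) ≫ f = k ≫ z.obj.hom
        rw [Category.assoc, h, Category.assoc]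
        congr 1
        exact Over.w t.hom
      have e₂ : (yon S).map (k ≫ t.hom.left) ≫ σ z' g h = _ :=
        hσ z' g h (k ≫ t.hom.left) hk₂ (zk z k) (tk ≫ t) (𝟙 V) (Category.id_comp _) hw
      rw [← Category.assoc, e₁]
      refine Eq.trans ?_ ((congrArg (· ≫ σ z' g h) ((yon S).map_comp k t.hom.left)).trans (Category.assoc _ _ _))
      rw [e₂, D.τ_comp, Category.assoc]
      have key : ∀ (k₁ k₂ : V ⟶ T) (h₁ : C k₁) (h₂ : C k₂), k₁ = k₂ → ∀ p q,
          (x k₁ h₁).s (zk z k) (𝟙 V) p = (x k₂ h₂).s (zk z k) (𝟙 V) q := by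
        rintro k₁ _ h₁ h₂ rfl p q
        rfl
      exact congrArg (· ≫ _) (key _ _ _ _ (Category.assoc _ _ _).symm _ _)
    · refine GluePt.ext' (hf k hk) fun z g h h' => ?_
      have hgk : C (𝟙 _ ≫ g ≫ k) := by rw [Category.id_comp]; exact C.downward_closed hk g
      have hw : 𝟙 _ ≫ (x (𝟙 _ ≫ g ≫ k) hgk).f = z.obj.hom := by
        rw [Category.id_comp, ← hf, Category.id_comp, Category.assoc, hf k hk]
        exact h'
      have e := hσ z (g ≫ k) h (𝟙 _) hgk z (𝟙 z) (𝟙 _) (Category.comp_id _) hw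
      show σ z (g ≫ k) h = (x k hk).s z g h'
      have hτ : ∀ (s : (yon S).obj z.obj.left ⟶ D.P z), s ≫ D.π z = 𝟙 _ →
          s ≫ D.τ (𝟙 z) = s := by
        intro s hs
        have hd : D.τ (𝟙 z) ≫ D.τ (𝟙 z) = D.τ (𝟙 z) := by rw [← D.τ_comp, Category.comp_id]
        have hπ : D.τ (𝟙 z) ≫ D.π z = D.π z :=
          (D.cart (𝟙 z)).w.trans ((congrArg (D.π z ≫ ·) ((yon S).map_id _)).trans (Category.comp_id _))
        apply (D.cart (𝟙 z)).hom_ext
        · rw [Category.assoc, hd]
        · rw [Category.assoc, hπ]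
      rw [show (yon S).map (𝟙 z : z ⟶ z).hom.left ≫ σ z (g ≫ k) h = σ z (g ≫ k) h from
        (congrArg (· ≫ _) ((yon S).map_id _)).trans (Category.id_comp _)] at e
      rw [e, hτ _ ((x _ hgk).hs _ _ _)]
      exact (hxc k hk g _ hgk (Category.id_comp _).symm z (𝟙 _) hw
        (by rw [Category.id_comp]; exact h')).trans (GluePt.s_congr _ (Category.id_comp g) _ _)

/-- The glued sheaf. -/
def glueSh : Sp S := ⟨gluePsh D, gluePsh_isSheaf D⟩

/-- Points of the glued sheaf. -/
def gluePtEquiv {T : Over S} : ((yon S).obj T ⟶ glueSh D) ≃ GluePt D T := yEquiv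

theorem gluePtEquiv_comp {T T' : Over S} (k : T' ⟶ T) (x : (yon S).obj T ⟶ glueSh D) :
    gluePtEquiv D ((yon S).map k ≫ x) = (gluePtEquiv D x).res k :=
  ((J S).uliftYonedaEquiv_naturality x k).symm

theorem GluePt.f_congr {T : Over S} {a b : GluePt D T} (h : a = b) : a.f = b.f := by rw [h]

/-- Sheaves glue over a representable sheaf. -/
theorem exists_glue :
    ∃ (P : Sp S) (π : P ⟶ (yon S).obj U) (q : ∀ z, D.P z ⟶ P),
      (∀ z, IsPullback (q z) (D.π z) π ((yon S).map z.obj.hom)) ∧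
        ∀ ⦃z z'⦄ (t : z ⟶ z'), D.τ t ≫ q z' = q z := by
  let π : glueSh D ⟶ (yon S).obj U := mkHom (fun T x => (yon S).map (gluePtEquiv D x).f)
    (fun T T' k x => by
      rw [gluePtEquiv_comp]
      exact (yon S).map_comp k _)
  -- the points of a member
  let kOf : ∀ (z : (Stk.sieveCat R).obj) ⦃T : Over S⦄ (_ : (yon S).obj T ⟶ D.P z), T ⟶ z.obj.left :=
    fun z T x => baseOf (D.π z) x
  have hpt : ∀ (z : (Stk.sieveCat R).obj) ⦃T : Over S⦄ (x : (yon S).obj T ⟶ D.P z)
      (z' : (Stk.sieveCat R).obj) (g : z'.obj.left ⟶ T) (h : g ≫ kOf z x ≫ z.obj.hom = z'.obj.hom),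
      ∃! σ : (yon S).obj z'.obj.left ⟶ D.P z', σ ≫ D.π z' = 𝟙 _ ∧
        σ ≫ D.τ (ObjectProperty.homMk (Over.homMk (g ≫ kOf z x) (by rw [← h]; exact Category.assoc _ _ _)) : z' ⟶ z) =
          (yon S).map g ≫ x := by
    intro z T x z' g h
    let t : z' ⟶ z := ObjectProperty.homMk (Over.homMk (g ≫ kOf z x) (by rw [← h]; exact Category.assoc _ _ _))
    have e : ((yon S).map g ≫ x) ≫ D.π z = 𝟙 _ ≫ (yon S).map t.hom.left := by
      exact ((Category.assoc _ _ _).trans ((congrArg ((yon S).map g ≫ ·) (map_baseOf (D.π z) x).symm).trans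
        ((yon S).map_comp g _).symm)).trans (Category.id_comp _).symm
    exact ⟨(D.cart t).lift _ _ e, ⟨(D.cart t).lift_snd _ _ _, (D.cart t).lift_fst _ _ _⟩,
      fun σ' h' => (D.cart t).hom_ext (h'.2.trans ((D.cart t).lift_fst _ _ e).symm)
        (h'.1.trans ((D.cart t).lift_snd _ _ e).symm)⟩
  let pt : ∀ (z : (Stk.sieveCat R).obj) ⦃T : Over S⦄ (_ : (yon S).obj T ⟶ D.P z), GluePt D T := fun z T x =>
    { f := kOf z x ≫ z.obj.hom
      s := fun z' g h => (hpt z x z' g h).choose
      hs := fun z' g h => (hpt z x z' g h).choose_spec.1.1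
      hnat := fun z₁ z₂ t g h h' => by
        have s₁ := (hpt z x z₁ _ h').choose_spec.1
        have s₂ := (hpt z x z₂ g h).choose_spec.1
        let t₂ : z₂ ⟶ z := ObjectProperty.homMk (Over.homMk (g ≫ kOf z x) (by rw [← h]; exact Category.assoc _ _ _))
        apply (D.cart t₂).hom_ext
        · refine (D.comp_τ _ t t₂).trans (Eq.trans ?_ (s₁.2.trans ?_))
          · congr 2
          · exact ((congrArg (· ≫ x) ((yon S).map_comp _ g)).trans (Category.assoc _ _ _)).trans
              ((congrArg (_ ≫ ·) s₂.2.symm).trans (Category.assoc _ _ _).symm)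
        · exact ((D.comp_π _ t).trans ((congrArg (· ≫ _) s₁.1).trans (Category.id_comp _))).trans
            ((Category.assoc _ _ _).trans ((congrArg (_ ≫ ·) s₂.1).trans (Category.comp_id _))).symm }
  let q : ∀ z, D.P z ⟶ glueSh D := fun z => mkHom (fun T x => (gluePtEquiv D).symm (pt z x))
    (fun T T' k x => by
      apply (gluePtEquiv D).injective
      rw [Equiv.apply_symm_apply, gluePtEquiv_comp, Equiv.apply_symm_apply]
      refine GluePt.ext' ?_ fun z' g h h' => ?_
      · show kOf z ((yon S).map k ≫ x) ≫ z.obj.hom = k ≫ kOf z x ≫ z.obj.hom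
        simp only [kOf, baseOf_comp, Category.assoc]
      · refine (hpt z x z' (g ≫ k) (by rw [Category.assoc]; exact h')).choose_spec.2 _
          ⟨(hpt z _ z' g h).choose_spec.1.1, ?_⟩
        have := (hpt z _ z' g h).choose_spec.1.2
        refine Eq.trans ?_ (this.trans ((Category.assoc _ _ _).symm.trans (congrArg (· ≫ x) ((yon S).map_comp g k).symm)))
        congr 2
        exact ObjectProperty.hom_ext _ (Over.OverMorphism.ext (by
          show (g ≫ k) ≫ kOf z x = g ≫ kOf z ((yon S).map k ≫ x)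
          simp only [kOf, baseOf_comp, Category.assoc])))
  have hq : ∀ z ⦃T : Over S⦄ (x : (yon S).obj T ⟶ D.P z), gluePtEquiv D (x ≫ q z) = pt z x := by
    intro z T x
    rw [comp_mkHom, Equiv.apply_symm_apply]
  have hπ : ∀ ⦃T : Over S⦄ (x : (yon S).obj T ⟶ glueSh D), x ≫ π = (yon S).map (gluePtEquiv D x).f :=
    fun T x => comp_mkHom _ _ x
  refine ⟨glueSh D, π, q, fun z => ?_, fun z z' t => ?_⟩
  · refine isPullback_of_lifts (hom_ext_points fun T x => ?_) (fun T b c e => ?_) (fun T a a' e₁ e₂ => ?_)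
    · refine ((Category.assoc _ _ _).symm.trans (hπ _)).trans ?_
      rw [hq]
      exact ((yon S).map_comp _ _).trans ((congrArg (· ≫ _) (map_baseOf _ x)).trans (Category.assoc _ _ _))
    · obtain ⟨k, rfl⟩ := (yon S).map_surjective c
      rw [hπ, ← Functor.map_comp] at e
      have ef := (yon S).map_injective e
      let w : (Stk.sieveCat R).obj := ⟨Over.mk (k ≫ z.obj.hom), R.downward_closed z.property _⟩
      let t : w ⟶ z := ObjectProperty.homMk (Over.homMk k rfl)
      have hw : 𝟙 T ≫ (gluePtEquiv D b).f = w.obj.hom := (Category.id_comp _).trans ef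
      let a := (gluePtEquiv D b).s w (𝟙 T) hw ≫ D.τ t
      have ha : a ≫ D.π z = (yon S).map k := by
        rw [Category.assoc, (D.cart t).w, ← Category.assoc, (gluePtEquiv D b).hs, Category.id_comp]
        rfl
      have hka : kOf z a = k := (yon S).map_injective ((map_baseOf _ _).trans ha)
      refine ⟨a, ?_, ha⟩
      apply (gluePtEquiv D).injective
      rw [hq]
      refine GluePt.ext' ?_ fun z' g h h' => ?_
      · show kOf z a ≫ z.obj.hom = _
        rw [hka]
        exact ef.symm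
      · symm
        refine (hpt z a z' g h).choose_spec.2 _ ⟨(gluePtEquiv D b).hs _ _ _, ?_⟩
        let t' : z' ⟶ w := ObjectProperty.homMk (Over.homMk g (by
          show g ≫ k ≫ z.obj.hom = z'.obj.hom
          rw [← hka]; exact h))
        have h₀ : (t'.hom.left ≫ 𝟙 T) ≫ (gluePtEquiv D b).f = z'.obj.hom := by
          show (g ≫ 𝟙 T) ≫ _ = _
          rw [Category.comp_id]; exact h'
        have en := (gluePtEquiv D b).hnat t' (𝟙 T) hw h₀
        refine Eq.trans ?_ ((Category.assoc _ _ _))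
        refine Eq.trans ?_ (congrArg (· ≫ D.τ t) en)
        refine Eq.trans ?_ (D.comp_τ _ t' t).symm
        congr 1
        congr 1
        exact ObjectProperty.hom_ext _ (Over.OverMorphism.ext (congrArg (g ≫ ·) hka))
    · have hk : kOf z a = kOf z a' := by simp only [kOf, baseOf, e₂]
      let w : (Stk.sieveCat R).obj := ⟨Over.mk (kOf z a ≫ z.obj.hom), R.downward_closed z.property _⟩
      have key : ∀ (p p' : GluePt D T), p = p' → ∀ h h', p.s w (𝟙 T) h = p'.s w (𝟙 T) h' := by
        rintro p _ rfl h h'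
        rfl
      have h₁ : 𝟙 T ≫ kOf z a ≫ z.obj.hom = w.obj.hom := Category.id_comp _
      have h₂ : 𝟙 T ≫ kOf z a' ≫ z.obj.hom = w.obj.hom := by rw [← hk]; exact h₁
      have e := key (pt z a) (pt z a') (by rw [← hq, ← hq, e₁]) h₁ h₂
      have s₁ := (hpt z a w (𝟙 T) h₁).choose_spec.1.2
      have s₂ := (hpt z a' w (𝟙 T) h₂).choose_spec.1.2
      change (hpt z a w (𝟙 T) h₁).choose = (hpt z a' w (𝟙 T) h₂).choose at e
      rw [e] at s₁
      have : (yon S).map (𝟙 T) ≫ a = (yon S).map (𝟙 T) ≫ a' := by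
        refine s₁.symm.trans (Eq.trans ?_ s₂)
        congr 2
        exact ObjectProperty.hom_ext _ (Over.OverMorphism.ext (congrArg (𝟙 T ≫ ·) hk))
      rwa [CategoryTheory.Functor.map_id, Category.id_comp, Category.id_comp] at this
  · refine hom_ext_points fun T x => ?_
    apply (gluePtEquiv D).injective
    rw [← Category.assoc, hq, hq]
    have hb : kOf z' (x ≫ D.τ t) = kOf z x ≫ t.hom.left := by
      apply (yon S).map_injective
      rw [Functor.map_comp, map_baseOf, map_baseOf, Category.assoc, Category.assoc, (D.cart t).w]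
    have hw : t.hom.left ≫ z'.obj.hom = z.obj.hom := Over.w t.hom
    refine GluePt.ext' ?_ fun w g h h' => ?_
    · show kOf z' (x ≫ D.τ t) ≫ z'.obj.hom = kOf z x ≫ z.obj.hom
      rw [hb, Category.assoc, hw]
    · symm
      refine (hpt z' _ w g h).choose_spec.2 _ ⟨(hpt z x w g h').choose_spec.1.1, ?_⟩
      refine Eq.trans ?_ ((congrArg (· ≫ D.τ t) (hpt z x w g h').choose_spec.1.2).trans (Category.assoc _ _ _))
      refine Eq.trans ?_ (D.comp_τ _ _ t).symm
      congr 2
      exact ObjectProperty.hom_ext _ (Over.OverMorphism.ext (by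
        show g ≫ kOf z' (x ≫ D.τ t) = (g ≫ kOf z x) ≫ t.hom.left
        rw [hb, Category.assoc]))

end

end Groth.QuotStk
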