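import Groth.Agent.QuotStk.QuotMap

/-!
# Invariant maps factor uniquely through the quotient stack
-/

set_option autoImplicit false
set_option backward.isDefEq.respectTransparency false
set_option backward.isDefEq.respectTransparency.types false
universe u

open CategoryTheory CategoryTheory.Limits AlgebraicGeometry Opposite AlgSp MonoidalCategory CartesianMonoidalCategory

namespace Groth.QuotStk

noncomputable section

variable {S : Scheme.{u}} {G X : Over S} [GrpObj G] {aX : AlgGrp.Action G X}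
variable {M : AlgSp.Sp S} (f : (yon S).obj X ⟶ M)

local notation "Q₀" => AlgSt.QuotSt Scheme.fppfPrecoverage G aX
local notation "QO" => AlgSt.QuotObj Scheme.fppfPrecoverage G aX

/-- The value of `f` at a point. -/
abbrev fsec {T : Over S} (x : T ⟶ X) : M.obj.obj (op T) := f.hom.app (op T) ⟨x⟩

theorem fsec_comp {T T' : Over S} (k : T' ⟶ T) (x : T ⟶ X) : M.obj.map k.op (fsec f x) = fsec f (k ≫ x) :=
  (NatTrans.naturality_apply f.hom k.op ⟨x⟩).symm

variable (aX) in
/-- Invariance. -/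
def IsInv : Prop := (yon S).map aX.act ≫ f = (yon S).map (snd G X) ≫ f

variable {f}

theorem IsInv.fsec_eq (hf : IsInv aX f) {T : Over S} (c : T ⟶ G ⊗ X) :
    fsec f (c ≫ aX.act) = fsec f (c ≫ snd G X) :=
  congrArg (fun φ => φ.hom.app (op T) ⟨c⟩) hf

theorem isSheafFor_π (A : QO) : Presieve.IsSheafFor M.obj (Presieve.singleton A.π) := by
  rw [Presieve.isSheafFor_iff_generate]
  refine (isSheaf_iff_isSheaf_of_type _ _).1 M.property _ (GrothendieckTopology.superset_covering _ ?_
    (secSieve_mem_of_hasSecLoc ((hasSecLoc_emb_iff A.π).2 A.loc)))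
  rintro V k ⟨s, hs⟩
  obtain ⟨σ, rfl⟩ := (yon S).map_surjective s
  rw [← Functor.map_comp] at hs
  exact ⟨A.P, σ, A.π, Presieve.singleton_self _, (yon S).map_injective hs⟩

theorem existsUnique_descSec (hf : IsInv aX f) (A : QO) :
    ∃! m, M.obj.map A.π.op m = fsec f A.φ := by
  refine Presieve.isSheafFor_singleton.1 (isSheafFor_π A) _ fun p₁ p₂ h => ?_
  let c := A.cart.lift p₁ p₂ h
  rw [fsec_comp, fsec_comp]
  refine (congrArg (fun q => fsec f (q ≫ A.φ)) (A.cart.lift_fst p₁ p₂ h)).symm.trans (Eq.trans ?_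
    (congrArg (fun q => fsec f (q ≫ A.φ)) (A.cart.lift_snd p₁ p₂ h)))
  show fsec f ((c ≫ A.act.act) ≫ A.φ) = fsec f ((c ≫ snd G A.P) ≫ A.φ)
  rw [Category.assoc, Category.assoc, A.eqv, ← whiskerLeft_snd G A.φ, ← Category.assoc c, ← Category.assoc c]
  exact hf.fsec_eq _

/-- The descended section. -/
def descSec (hf : IsInv aX f) (A : QO) : M.obj.obj (op A.base) := (existsUnique_descSec hf A).choose

theorem descSec_spec (hf : IsInv aX f) (A : QO) : M.obj.map A.π.op (descSec hf A) = fsec f A.φ :=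
  (existsUnique_descSec hf A).choose_spec.1

theorem descSec_eq (hf : IsInv aX f) {A : QO} {m : M.obj.obj (op A.base)}
    (h : M.obj.map A.π.op m = fsec f A.φ) : m = descSec hf A :=
  (existsUnique_descSec hf A).choose_spec.2 m h

theorem descSec_map (hf : IsInv aX f) {A B : QO} (g : A ⟶ B) :
    M.obj.map g.base.op (descSec hf B) = descSec hf A := by
  apply descSec_eq
  rw [← Functor.map_comp_apply, ← op_comp, ← g.cart.w, op_comp, Functor.map_comp_apply, descSec_spec,
    fsec_comp, g.wφ]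

theorem descSec_triv (hf : IsInv aX f) {T : Over S} (x : T ⟶ X) :
    descSec hf (trivT aX x) = fsec f x := by
  refine (descSec_eq hf ?_).symm
  show M.obj.map (snd G T).op (fsec f x) = fsec f ((G ◁ x) ≫ aX.act)
  rw [fsec_comp, hf.fsec_eq, whiskerLeft_snd]

/-- The functor to the space. -/
def descFunctor (hf : IsInv aX f) : Q₀ ⥤ᵇ AlgSt.ofSp M where
  toFunctor :=
    { obj := fun A => ⟨A.base, descSec hf A⟩
      map := fun g => ⟨g.base, descSec_map hf g⟩
      map_id := fun A => Stk.EltObj.hom_ext rfl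
      map_comp := fun g h => Stk.EltObj.hom_ext rfl }
  w := rfl

/-- Based functors into the category of a presheaf are equal when they agree on objects. -/
theorem basedFunctor_ext_ofSp {𝒳 : AlgSt.Cat S} {F F' : 𝒳 ⥤ᵇ AlgSt.ofSp M}
    (h : ∀ x, F.obj x = F'.obj x) : F = F' := by
  obtain ⟨F₁, w₁⟩ := F
  obtain ⟨F₂, w₂⟩ := F'
  obtain rfl : F₁ = F₂ := by
    refine CategoryTheory.Functor.ext h fun x y g => Stk.EltObj.hom_ext ?_
    have e := Functor.congr_hom (w₁.trans w₂.symm) g
    change (F₁.map g).hom = _ at e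
    rw [e]
    show _ = (eqToHom (h x) ≫ F₂.map g ≫ eqToHom (h y).symm).hom
    rw [show ∀ {a b c d : (AlgSt.ofSp M).obj} (p : a ⟶ b) (q : b ⟶ c) (r : c ⟶ d),
        (p ≫ q ≫ r).hom = p.hom ≫ q.hom ≫ r.hom from fun _ _ _ => rfl]
    have he : ∀ {a b : (AlgSt.ofSp M).obj} (p : a = b),
        (eqToHom p).hom = eqToHom (congrArg (fun z => z.base) p) := fun p => by subst p; rfl
    rw [he, he]
    rfl
  rfl

theorem eq_descSec_of_hom (hf : IsInv aX f) (A : QO) {a b : (AlgSt.ofSp M).obj} (m : a ⟶ b)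
    (ha : a = ⟨A.P, fsec f A.φ⟩) (hb : b.base = A.base)
    (hm : m.hom = eqToHom (congrArg (fun z => z.base) ha) ≫ A.π ≫ eqToHom hb.symm) :
    b = ⟨A.base, descSec hf A⟩ := by
  subst ha
  obtain ⟨T, s⟩ := b
  change T = A.base at hb
  subst hb
  have e := m.map_sec
  rw [hm, eqToHom_refl, eqToHom_refl, Category.id_comp, Category.comp_id] at e
  exact congrArg (Stk.EltObj.mk A.base) (descSec_eq hf e)

theorem existsUnique_descFunctor (hf : IsInv aX f) :
    ∃! φ : Q₀ ⥤ᵇ AlgSt.ofSp M,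
      BasedFunctor.comp (AlgSt.quotMap Scheme.fppfPrecoverage G aX) φ = AlgSt.ofSpMap f := by
  refine ⟨descFunctor hf, basedFunctor_ext_ofSp fun x => ?_, fun ψ hψ => basedFunctor_ext_ofSp fun A => ?_⟩
  · obtain ⟨T, ⟨x⟩⟩ := x
    exact congrArg (Stk.EltObj.mk T) (descSec_triv hf x)
  · let h := homOfPt A (𝟙 A.P)
    exact eq_descSec_of_hom hf A (ψ.map h)
      ((congrArg (fun F => F.obj ((AlgSt.ofOverCat X).obj (Over.mk (𝟙 A.P ≫ A.φ)))) hψ).trans
        (congrArg (fun q => (⟨A.P, fsec f q⟩ : (AlgSt.ofSp M).obj)) (Category.id_comp A.φ)))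
      (ψ.w_obj A) ((Groth.StkBase.map_map ψ h).trans (by
        exact congrArg (fun q => eqToHom _ ≫ q ≫ eqToHom _) (Category.id_comp A.π)))

end

end Groth.QuotStk
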