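import Groth.Agent.QuotStk.QuotMap

/-!
# `G × X` is the self fibre product of the canonical map to the quotient stack
-/

set_option autoImplicit false
set_option backward.isDefEq.respectTransparency false
set_option backward.isDefEq.respectTransparency.types false
universe u

open CategoryTheory CategoryTheory.Limits AlgebraicGeometry Opposite AlgSp MonoidalCategory CartesianMonoidalCategory
open CategoryTheory.MonObj
open Groth.StkBase (IsVert isoMk isoApp fp_p_snd fp_map_snd fp_isVert fp_hom_ext fpObjIso)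

namespace Groth.QuotStk

noncomputable section

variable {S : Scheme.{u}} {G X : Over S} [GrpObj G] {aX : AlgGrp.Action G X}

local notation "Q₀" => AlgSt.QuotSt Scheme.fppfPrecoverage G aX

/-- The point of the trivial torsor given by the group component. -/
def shiftPt {T : Over S} (p : T ⟶ G ⊗ X) : T ⟶ G ⊗ T := lift (p ≫ fst G X) (𝟙 T)

theorem shiftPt_φ {T : Over S} (p : T ⟶ G ⊗ X) :
    shiftPt p ≫ (G ◁ (p ≫ snd G X)) = p := by
  apply CartesianMonoidalCategory.hom_ext <;> simp [shiftPt]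

variable (aX) in
/-- Right multiplication by the group component: an isomorphism of trivial torsors. -/
def shift {T : Over S} (p : T ⟶ G ⊗ X) : trivT aX (p ≫ aX.act) ⟶ trivT aX (p ≫ snd G X) where
  base := 𝟙 T
  top := (G ◁ shiftPt p) ≫ (AlgSt.leftMul G T).act
  eqv := (homOfPt (trivT aX (p ≫ snd G X)) (shiftPt p)).eqv
  cart := by
    have h := (AlgSt.isPullback_whiskerLeft (G := G) (shiftPt p)).paste_horiz
      (trivT aX (p ≫ snd G X)).cart
    change IsPullback _ (snd G T) (snd G T) (shiftPt p ≫ snd G T) at h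
    rwa [show shiftPt p ≫ snd G T = 𝟙 T from lift_snd _ _] at h
  wφ := by
    refine (homOfPt (trivT aX (p ≫ snd G X)) (shiftPt p)).wφ.trans ?_
    show (G ◁ (shiftPt p ≫ (G ◁ (p ≫ snd G X)) ≫ aX.act)) ≫ aX.act = (G ◁ (p ≫ aX.act)) ≫ aX.act
    rw [← Category.assoc (shiftPt p), shiftPt_φ]

theorem ptOf_shift {T : Over S} (p : T ⟶ G ⊗ X) : ptOf (shift aX p) = shiftPt p :=
  unitSec_act _ _

theorem isVert_shift {T : Over S} (p : T ⟶ G ⊗ X) : IsVert (Q₀).p (shift aX p) :=
  ⟨rfl, rfl⟩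

variable (aX) in
/-- One leg. -/
abbrev actLeg : AlgSt.ofSp ((yon S).obj (G ⊗ X)) ⥤ᵇ Q₀ :=
  BasedFunctor.comp (AlgSt.ofSpMap ((yon S).map aX.act)) (AlgSt.quotMap Scheme.fppfPrecoverage G aX)

variable (aX) in
/-- The other leg. -/
abbrev sndLeg : AlgSt.ofSp ((yon S).obj (G ⊗ X)) ⥤ᵇ Q₀ :=
  BasedFunctor.comp (AlgSt.ofSpMap ((yon S).map (snd G X))) (AlgSt.quotMap Scheme.fppfPrecoverage G aX)

theorem shift_naturality {w w' : (AlgSt.ofSp ((yon S).obj (G ⊗ X))).obj} (f : w ⟶ w') :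
    (actLeg aX).map f ≫ shift aX w'.sec.down = shift aX w.sec.down ≫ (sndLeg aX).map f := by
  have hk : f.hom ≫ w'.sec.down = w.sec.down := congrArg ULift.down f.map_sec
  refine hom_ext_of_ptOf ?_ ?_
  · show f.hom ≫ 𝟙 _ = 𝟙 _ ≫ f.hom
    rw [Category.comp_id, Category.id_comp]
  · show unitSec G w.base ≫ (G ◁ f.hom) ≫ (shift aX w'.sec.down).top =
      unitSec G w.base ≫ (shift aX w.sec.down).top ≫ (G ◁ f.hom)
    rw [← Category.assoc, unitSec_naturality, Category.assoc, ← Category.assoc (unitSec G w.base)]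
    show f.hom ≫ ptOf (shift aX w'.sec.down) = ptOf (shift aX w.sec.down) ≫ (G ◁ f.hom)
    rw [ptOf_shift, ptOf_shift]
    apply CartesianMonoidalCategory.hom_ext <;> simp [shiftPt, ← hk]

variable (aX) in
/-- The 2-isomorphism. -/
def shiftIso : actLeg aX ≅ sndLeg aX :=
  isoMk (fun w =>
      haveI := (isVert_shift (aX := aX) w.sec.down).isIso (isFibGrpd_quotSt aX)
      asIso (shift aX w.sec.down))
    (fun f => shift_naturality f) (fun w => isVert_shift w.sec.down)

theorem exists_shiftPt {T : Over S} {x₁ x₂ : T ⟶ X} {h : trivT aX x₁ ⟶ trivT aX x₂} (hb : h.base = 𝟙 T) :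
    ∃ p : T ⟶ G ⊗ X, x₁ = p ≫ aX.act ∧ x₂ = p ≫ snd G X ∧ shiftPt p = ptOf h := by
  have hσ : ptOf h ≫ snd G T = 𝟙 T := (ptOf_π h).trans hb
  refine ⟨ptOf h ≫ (G ◁ x₂), ((Category.assoc _ _ _).trans (ptOf_φ h)).symm, ?_, ?_⟩
  · rw [Category.assoc, whiskerLeft_snd]
    exact ((Category.assoc _ _ _).symm.trans ((congrArg (· ≫ x₂) hσ).trans (Category.id_comp _))).symm
  · apply CartesianMonoidalCategory.hom_ext
    · simp [shiftPt]
      rfl
    · exact (lift_snd _ _).trans hσ.symm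

theorem isTwoCartOver_shiftIso :
    FibCat.IsTwoCartOver (AlgSt.ofSpMap ((yon S).map aX.act)) (AlgSt.ofSpMap ((yon S).map (snd G X)))
      (shiftIso aX) := by
  refine Groth.StkBase.isEquivOver_of_fullyFaithful _ ⟨fun {w w'} m => ?_⟩ ⟨fun {w w'} f g h => ?_⟩ fun z => ?_
  · let k : w.base ⟶ w'.base := m.hom.fst.hom
    have hs : m.hom.snd.hom = k := (fp_map_snd m).trans (by
      show eqToHom _ ≫ k ≫ eqToHom _ = k
      simp)
    have hw : (AlgSt.quotMap Scheme.fppfPrecoverage G aX).map m.hom.fst ≫ shift aX w'.sec.down =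
        shift aX w.sec.down ≫ (AlgSt.quotMap Scheme.fppfPrecoverage G aX).map m.hom.snd := m.hom.w
    have e := congrArg ptOf hw
    change unitSec G w.base ≫ (G ◁ k) ≫ (shift aX w'.sec.down).top =
      unitSec G w.base ≫ (shift aX w.sec.down).top ≫ (G ◁ m.hom.snd.hom) at e
    rw [← Category.assoc, unitSec_naturality, Category.assoc, ← Category.assoc (unitSec G w.base)] at e
    change k ≫ ptOf (shift aX w'.sec.down) = ptOf (shift aX w.sec.down) ≫ (G ◁ m.hom.snd.hom) at e
    rw [ptOf_shift, ptOf_shift] at e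
    have e₁ : k ≫ w'.sec.down ≫ fst G X = w.sec.down ≫ fst G X := by
      have := congrArg (fun t => t ≫ fst G w'.base) e
      exact ((congrArg (k ≫ ·) (lift_fst _ _)).symm.trans (Category.assoc _ _ _).symm).trans
        (this.trans ((Category.assoc _ _ _).trans ((congrArg (_ ≫ ·) (whiskerLeft_fst _ _)).trans (lift_fst _ _))))
    have e₂ : k ≫ w'.sec.down ≫ snd G X = w.sec.down ≫ snd G X := by
      rw [← hs]
      exact congrArg ULift.down m.hom.snd.map_sec
    have hk : k ≫ w'.sec.down = w.sec.down :=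
      CartesianMonoidalCategory.hom_ext _ _ ((Category.assoc _ _ _).trans e₁) ((Category.assoc _ _ _).trans e₂)
    exact ⟨⟨k, congrArg ULift.up hk⟩, fp_hom_ext (Stk.EltObj.hom_ext rfl) (Stk.EltObj.hom_ext hs.symm)⟩
  · exact Stk.EltObj.hom_ext (congrArg (fun m => m.hom.fst.hom) h)
  · obtain ⟨⟨a, b, i⟩, hl⟩ := z
    have hb : b.base = a.base := fp_p_snd (⟨⟨a, b, i⟩, hl⟩ : (FibCat.fp _ _).obj)
    have hv : IsVert (Q₀).p i.hom := fp_isVert (⟨⟨a, b, i⟩, hl⟩ : (FibCat.fp _ _).obj)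
    obtain ⟨T, ⟨x₂⟩⟩ := b
    obtain ⟨T', ⟨x₁⟩⟩ := a
    change T = T' at hb
    subst hb
    have hbase : i.hom.base = 𝟙 T := hv.map_eq
    obtain ⟨p, rfl, rfl, hp⟩ := exists_shiftPt (h := i.hom) hbase
    have he : shift aX p = i.hom := hom_ext_of_ptOf hbase.symm ((ptOf_shift p).trans hp)
    refine ⟨⟨T, ⟨p⟩⟩, fpObjIso (Iso.refl _) (Iso.refl _) ?_, rfl, rfl⟩
    show (AlgSt.quotMap Scheme.fppfPrecoverage G aX).map (𝟙 _) ≫ i.hom = shift aX p ≫
      (AlgSt.quotMap Scheme.fppfPrecoverage G aX).map (𝟙 _)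
    erw [CategoryTheory.Functor.map_id, CategoryTheory.Functor.map_id, Category.id_comp, Category.comp_id, he]

end

end Groth.QuotStk
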