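import Groth.Agent.QuotStk.SpQuotStack
import Groth.Agent.QuotStk.AffineRepresentable
import Groth.Prelude.Def_AlgSt5
import Mathlib.CategoryTheory.Limits.Constructions.LimitsOfProductsAndEqualizers
import Mathlib.CategoryTheory.Monoidal.Cartesian.Grp

/-!
# Schemes over `S` as sheaves over the terminal sheaf
-/

set_option autoImplicit false
set_option backward.isDefEq.respectTransparency false
set_option backward.isDefEq.respectTransparency.types false
universe u

open CategoryTheory CategoryTheory.Limits AlgebraicGeometry Opposite AlgSp MonoidalCategory CartesianMonoidalCategory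
open CategoryTheory.MonObj CategoryTheory.Functor.LaxMonoidal
open scoped CategoryTheory.Obj

namespace Groth.QuotStk

noncomputable section

variable (S : Scheme.{u})

/-- The terminal representable sheaf. -/
abbrev B0 : Sp S := (yon S).obj (Over.mk (𝟙 S))

variable {S}

instance subsingleton_hom_B0 (T : Over S) : Subsingleton ((yon S).obj T ⟶ B0 S) := by
  refine ⟨fun a b => ?_⟩
  obtain ⟨a, rfl⟩ := (yon S).map_surjective a
  obtain ⟨b, rfl⟩ := (yon S).map_surjective b
  rw [Over.mkIdTerminal.hom_ext a b]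

variable (S) in
/-- Schemes over `S` as sheaves over the terminal sheaf. -/
def emb : Over S ⥤ Over (B0 S) where
  obj Y := Over.mk ((yon S).map (Over.mkIdTerminal.from Y))
  map {Y _} f := Over.homMk ((yon S).map f) ((subsingleton_hom_B0 Y).elim _ _)
  map_id Y := Over.OverMorphism.ext ((yon S).map_id Y)
  map_comp f g := Over.OverMorphism.ext ((yon S).map_comp f g)

theorem emb_hom_surjective {Y Y' : Over S} (a : (emb S).obj Y ⟶ (emb S).obj Y') :
    ∃ f : Y ⟶ Y', (emb S).map f = a := by
  obtain ⟨f, hf⟩ := (yon S).map_surjective (show (yon S).obj Y ⟶ (yon S).obj Y' from a.left)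
  exact ⟨f, Over.OverMorphism.ext hf⟩

instance : (emb S).Full := ⟨fun a => emb_hom_surjective a⟩

instance : (emb S).Faithful :=
  ⟨fun {_ _} _ _ h => (yon S).map_injective (congrArg CommaMorphism.left h)⟩

instance : PreservesLimitsOfShape WalkingCospan (emb S) :=
  have : PreservesLimitsOfShape WalkingCospan (emb S ⋙ Over.forget (B0 S)) :=
    preservesLimitsOfShape_of_natIso (NatIso.ofComponents (fun _ => Iso.refl _) (by intros; simp) : yon S ≅ _)
  preservesLimitsOfShape_of_reflects_of_preserves _ (Over.forget (B0 S))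

instance : PreservesLimitsOfShape (Discrete.{0} PEmpty) (emb S) := by
  suffices h : PreservesLimit (Functor.empty.{0} (Over S)) (emb S) from
    preservesLimitsOfShape_pempty_of_preservesTerminal _
  refine preservesTerminal_of_iso (emb S) ?_
  refine IsTerminal.uniqueUpToIso ?_ terminalIsTerminal
  refine IsTerminal.ofIso (Over.mkIdTerminal (X := B0 S)) ?_
  let e : ⊤_ (Over S) ≅ Over.mk (𝟙 S) := terminalIsTerminal.uniqueUpToIso Over.mkIdTerminal
  exact (Over.isoMk ((yon S).mapIso e) ((subsingleton_hom_B0 _).elim _ _) : (emb S).obj (⊤_ Over S) ≅ Over.mk (𝟙 (B0 S))).symm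

instance : PreservesFiniteProducts (emb S) := by
  have : PreservesLimitsOfShape (Discrete WalkingPair) (emb S) :=
    preservesBinaryProducts_of_preservesTerminal_and_pullbacks _
  exact PreservesFiniteProducts.of_preserves_binary_and_terminal _

instance : (emb S).Monoidal := Functor.Monoidal.ofChosenFiniteProducts _

section Action

variable {G P : Over S} [GrpObj G]

/-- The image of a map `G ⊗ P ⟶ P`. -/
def embAct (a : G ⊗ P ⟶ P) : (emb S).obj G ⊗ (emb S).obj P ⟶ (emb S).obj P :=
  Functor.LaxMonoidal.μ (emb S) G P ≫ (emb S).map a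

theorem embAct_one_iff (a : G ⊗ P ⟶ P) :
    (η[(emb S).obj G] ▷ (emb S).obj P) ≫ embAct a = (λ_ _).hom ↔ (η[G] ▷ P) ≫ a = (λ_ P).hom := by
  have e : (η[(emb S).obj G] ▷ (emb S).obj P) ≫ embAct a =
      (ε (emb S) ▷ (emb S).obj P ≫ Functor.LaxMonoidal.μ (emb S) _ P) ≫ (emb S).map ((η[G] ▷ P) ≫ a) := by
    show ((ε (emb S) ≫ (emb S).map η[G]) ▷ _) ≫ Functor.LaxMonoidal.μ (emb S) G P ≫ _ = _
    rw [MonoidalCategory.comp_whiskerRight, Category.assoc, μ_natural_left_assoc, Functor.map_comp, Category.assoc]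
  rw [e, left_unitality (emb S), ← Category.assoc (ε (emb S) ▷ (emb S).obj P)]
  exact ⟨fun h => (emb S).map_injective ((cancel_epi _).1 h), fun h => by rw [h]⟩

theorem embAct_mul_iff (a : G ⊗ P ⟶ P) :
    (μ[(emb S).obj G] ▷ (emb S).obj P) ≫ embAct a =
        (α_ _ _ _).hom ≫ ((emb S).obj G ◁ embAct a) ≫ embAct a ↔
      (μ[G] ▷ P) ≫ a = (α_ G G P).hom ≫ (G ◁ a) ≫ a := by
  have e : (μ[(emb S).obj G] ▷ (emb S).obj P) ≫ embAct a =
      (Functor.LaxMonoidal.μ (emb S) G G ▷ (emb S).obj P ≫ Functor.LaxMonoidal.μ (emb S) _ P) ≫ (emb S).map ((μ[G] ▷ P) ≫ a) := by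
    show ((Functor.LaxMonoidal.μ (emb S) G G ≫ (emb S).map μ[G]) ▷ _) ≫ Functor.LaxMonoidal.μ (emb S) G P ≫ _ = _
    rw [MonoidalCategory.comp_whiskerRight, Category.assoc, μ_natural_left_assoc, Functor.map_comp, Category.assoc]
  have e' : (α_ _ _ _).hom ≫ ((emb S).obj G ◁ embAct a) ≫ embAct a =
      (Functor.LaxMonoidal.μ (emb S) G G ▷ (emb S).obj P ≫ Functor.LaxMonoidal.μ (emb S) _ P) ≫ (emb S).map ((α_ G G P).hom ≫ (G ◁ a) ≫ a) := by
    simp only [embAct, MonoidalCategory.whiskerLeft_comp, Category.assoc, Functor.map_comp]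
    rw [μ_natural_right_assoc, associativity_assoc]
  rw [e, e']
  exact ⟨fun h => (emb S).map_injective ((cancel_epi _).1 h), fun h => by rw [h]⟩

omit [GrpObj G] in
theorem embAct_eqv {P' : Over S} (a : G ⊗ P ⟶ P) (a' : G ⊗ P' ⟶ P') (f : P ⟶ P') :
    embAct a ≫ (emb S).map f = ((emb S).obj G ◁ (emb S).map f) ≫ embAct a' ↔ a ≫ f = (G ◁ f) ≫ a' := by
  simp only [embAct, Category.assoc, μ_natural_right_assoc, ← Functor.map_comp, cancel_epi]
  exact ⟨fun h => (emb S).map_injective h, fun h => by rw [h]⟩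

omit [GrpObj G] in
theorem embAct_surjective (a : (emb S).obj G ⊗ (emb S).obj P ⟶ (emb S).obj P) :
    ∃ b : G ⊗ P ⟶ P, embAct b = a := by
  obtain ⟨b, hb⟩ := emb_hom_surjective ((Functor.Monoidal.μIso (emb S) G P).inv ≫ a)
  exact ⟨b, by simp [embAct, hb]⟩

/-- The image of an action. -/
def embAction (a : AlgGrp.Action G P) : GAction ((emb S).obj G) ((emb S).obj P) where
  act := embAct a.act
  one_act := (embAct_one_iff _).2 a.one_act
  mul_act := (embAct_mul_iff _).2 a.mul_act

omit [GrpObj G] in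
theorem embAct_cart_iff {T : Over S} (a : G ⊗ P ⟶ P) (π : P ⟶ T) :
    IsPullback (embAct a) (snd _ _) ((emb S).map π) ((emb S).map π) ↔ IsPullback a (snd G P) π π := by
  have : IsIso (Functor.LaxMonoidal.μ (emb S) G P) := inferInstance
  constructor
  · intro h
    refine IsPullback.of_map (emb S) ?_ (h.of_iso (Functor.Monoidal.μIso (emb S) G P) (Iso.refl _) (Iso.refl _) (Iso.refl _)
      (by simp [embAct]) (by simp) (by simp) (by simp))
    apply (emb S).map_injective
    rw [← cancel_epi (Functor.LaxMonoidal.μ (emb S) G P), Functor.map_comp, Functor.map_comp, Functor.Monoidal.μ_snd_assoc,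
      ← Category.assoc]
    exact h.w
  · intro h
    refine (h.map (emb S)).of_iso (Functor.Monoidal.μIso (emb S) G P).symm (Iso.refl _) (Iso.refl _) (Iso.refl _) ?_ ?_
      (by simp) (by simp) <;> simp [embAct]

end Action

end

end Groth.QuotStk
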