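import Groth.Agent.QuotStk.GlueObj
import Groth.Prelude.Def_AlgSt6
import Mathlib.CategoryTheory.Limits.Constructions.Over.Connected

/-!
# Descent of morphisms of sheaves over a base sheaf, along a covering sieve of a representable sheaf
-/

set_option autoImplicit false
set_option backward.isDefEq.respectTransparency false
set_option backward.isDefEq.respectTransparency.types false
universe u

open CategoryTheory CategoryTheory.Limits AlgebraicGeometry Opposite AlgSp MonoidalCategory CartesianMonoidalCategory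
open Groth.AlgSpBasic (yEquiv isPullback_of_lifts exists_cover_of_mem)

namespace Groth.QuotStk

noncomputable section

variable {S : Scheme.{u}} {B : Sp S}

theorem isPullback_left' {W X Y Z : Over B} {a : W ⟶ X} {b : W ⟶ Y} {f : X ⟶ Z} {g : Y ⟶ Z}
    (h : IsPullback a b f g) : IsPullback a.left b.left f.left g.left :=
  h.map (Over.forget B)

theorem isPullback_of_left {W X Y Z : Over B} {a : W ⟶ X} {b : W ⟶ Y} {f : X ⟶ Z} {g : Y ⟶ Z}
    (w : a ≫ f = b ≫ g) (h : IsPullback a.left b.left f.left g.left) : IsPullback a b f g :=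
  IsPullback.of_map (Over.forget B) w h

variable {U : Over S} {R : Sieve U} {bU : (yon S).obj U ⟶ B}
  {bz : ∀ z : (Stk.sieveCat R).obj, (yon S).obj z.obj.left ⟶ B}
  (hbz : ∀ z, (yon S).map z.obj.hom ≫ bU = bz z)

include hbz in
theorem bz_map {z z' : (Stk.sieveCat R).obj} (t : z ⟶ z') :
    (yon S).map t.hom.left ≫ bz z' = bz z := by
  rw [← hbz, ← hbz, ← Category.assoc, ← Functor.map_comp]
  exact congrArg (fun k => (yon S).map k ≫ bU) (Over.w t.hom)

/-- The inclusion of a member of the sieve, over `B`. -/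
abbrev memHom (z : (Stk.sieveCat R).obj) : Over.mk (bz z) ⟶ Over.mk bU :=
  AlgSt.bHom z.obj.hom (hbz z)

/-- A transition map between members of the sieve, over `B`. -/
abbrev transHom {z z' : (Stk.sieveCat R).obj} (t : z ⟶ z') : Over.mk (bz z) ⟶ Over.mk (bz z') :=
  AlgSt.bHom t.hom.left (bz_map hbz t)

variable {Z W : Over B} {p : Z ⟶ Over.mk bU} {Zs : (Stk.sieveCat R).obj → Over B}
  {ρ : ∀ z, Zs z ⟶ Z} {ps : ∀ z, Zs z ⟶ Over.mk (bz z)}

/-- A point over a member of the sieve lifts to the restriction. -/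
theorem exists_lift_point (hc : ∀ z, IsPullback (ρ z) (ps z) p (memHom hbz z))
    {T : Over S} (x : (yon S).obj T ⟶ Z.left) (z : (Stk.sieveCat R).obj) (g : T ⟶ z.obj.left)
    (hg : g ≫ z.obj.hom = baseOf p.left x) :
    ∃! y : (yon S).obj T ⟶ (Zs z).left, y ≫ (ρ z).left = x ∧ y ≫ (ps z).left = (yon S).map g := by
  have e : x ≫ p.left = (yon S).map g ≫ (memHom hbz z).left :=
    ((map_baseOf p.left x).symm.trans (congrArg (yon S).map hg.symm)).trans ((yon S).map_comp g _)
  have h := isPullback_left' (hc z)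
  exact ⟨h.lift _ _ e, ⟨h.lift_fst _ _ _, h.lift_snd _ _ _⟩, fun y hy =>
    h.hom_ext (hy.1.trans (h.lift_fst _ _ e).symm) (hy.2.trans (h.lift_snd _ _ e).symm)⟩

/-- The restrictions to the members of a covering sieve are jointly epimorphic. -/
theorem cov_ext (hR : R ∈ J S U) (hc : ∀ z, IsPullback (ρ z) (ps z) p (memHom hbz z)) {a b : Z ⟶ W}
    (h : ∀ z, ρ z ≫ a = ρ z ≫ b) : a = b := by
  refine Over.OverMorphism.ext (hom_ext_over p.left hR fun T x hx => ?_)
  let z : (Stk.sieveCat R).obj := ⟨Over.mk (baseOf p.left x), hx⟩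
  obtain ⟨y, ⟨hy, -⟩, -⟩ := exists_lift_point hbz hc x z (𝟙 T) (Category.id_comp _)
  rw [← hy, Category.assoc, Category.assoc]
  exact congrArg (y ≫ ·) (congrArg CommaMorphism.left (h z))

/-- Restrictions to members map to each other. -/
theorem exists_trans (hc : ∀ z, IsPullback (ρ z) (ps z) p (memHom hbz z)) {z z' : (Stk.sieveCat R).obj}
    (t : z ⟶ z') : ∃ s : Zs z ⟶ Zs z', s ≫ ρ z' = ρ z ∧ s ≫ ps z' = ps z ≫ transHom hbz t := by
  have e : ρ z ≫ p = (ps z ≫ transHom hbz t) ≫ memHom hbz z' := by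
    rw [(hc z).w, Category.assoc, ← AlgSt.bHom_comp _ _ _ _
      (show (yon S).map (t.hom.left ≫ z'.obj.hom) ≫ bU = bz z by rw [show t.hom.left ≫ z'.obj.hom = z.obj.hom from Over.w t.hom]; exact hbz z)]
    congr 1
    exact Over.OverMorphism.ext (congrArg (yon S).map (Over.w t.hom).symm)
  exact ⟨(hc z').lift _ _ e, (hc z').lift_fst _ _ _, (hc z').lift_snd _ _ _⟩

/-- Compatible maps on the restrictions to the members of a covering sieve glue. -/
theorem cov_glue (hR : R ∈ J S U) (hc : ∀ z, IsPullback (ρ z) (ps z) p (memHom hbz z))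
    (f : ∀ z, Zs z ⟶ W)
    (hf : ∀ ⦃z z' : (Stk.sieveCat R).obj⦄ (t : z ⟶ z') (s : Zs z ⟶ Zs z'),
      s ≫ ρ z' = ρ z → s ≫ ps z' = ps z ≫ transHom hbz t → s ≫ f z' = f z) :
    ∃ a : Z ⟶ W, ∀ z, ρ z ≫ a = f z := by
  have hσ := fun ⦃z z' : (Stk.sieveCat R).obj⦄ (t : z ⟶ z') => exists_trans hbz hc t
  let zx : ∀ ⦃T : Over S⦄ (x : (yon S).obj T ⟶ Z.left), R (baseOf p.left x) → (Stk.sieveCat R).obj :=
    fun T x hx => ⟨Over.mk (baseOf p.left x), hx⟩
  have hy := fun ⦃T : Over S⦄ (x : (yon S).obj T ⟶ Z.left) (hx : R (baseOf p.left x)) =>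
    (exists_lift_point hbz hc x (zx x hx) (𝟙 T) (Category.id_comp _)).exists
  choose y hy₁ hy₂ using hy
  -- independence of the member
  have key : ∀ (z : (Stk.sieveCat R).obj) ⦃T : Over S⦄ (v : (yon S).obj T ⟶ (Zs z).left)
      (hx : R (baseOf p.left (v ≫ (ρ z).left))),
      y (v ≫ (ρ z).left) hx ≫ (f (zx _ hx)).left = v ≫ (f z).left := by
    intro z T v hx
    let g : T ⟶ z.obj.left := baseOf (ps z).left v
    have hg : g ≫ z.obj.hom = baseOf p.left (v ≫ (ρ z).left) := by
      apply (yon S).map_injective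
      rw [Functor.map_comp, map_baseOf, map_baseOf, Category.assoc, Category.assoc]
      exact (congrArg (v ≫ ·) (congrArg CommaMorphism.left (hc z).w)).symm
    let t : zx _ hx ⟶ z := ObjectProperty.homMk (Over.homMk g hg)
    obtain ⟨s, hs₁, hs₂⟩ := hσ t
    have e : y (v ≫ (ρ z).left) hx ≫ s.left = v := by
      refine (exists_lift_point hbz hc _ z g hg).unique ⟨?_, ?_⟩ ⟨rfl, (map_baseOf _ v).symm⟩
      · rw [Category.assoc]
        exact (congrArg (_ ≫ ·) (congrArg CommaMorphism.left hs₁)).trans (hy₁ _ hx)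
      · rw [Category.assoc]
        refine (congrArg (_ ≫ ·) (congrArg CommaMorphism.left hs₂)).trans ?_
        exact (Category.assoc _ _ _).symm.trans ((congrArg (· ≫ (yon S).map g) (hy₂ _ hx)).trans
          (((yon S).map_comp (𝟙 T) g).symm.trans (congrArg (yon S).map (Category.id_comp g))))
    rw [← hf t s hs₁ hs₂]
    exact (Category.assoc _ _ _).symm.trans (congrArg (· ≫ (f z).left) e)
  obtain ⟨a, ha⟩ := hom_glue_over p.left hR (fun T x hx => y x hx ≫ (f (zx x hx)).left)
    (fun T T' k x hx hkx => by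
      have e : (yon S).map k ≫ x = ((yon S).map k ≫ y x hx) ≫ (ρ (zx x hx)).left := by
        rw [Category.assoc, hy₁]
      have hc' : ∀ (x' : (yon S).obj T' ⟶ Z.left) (_ : x' = (yon S).map k ≫ x) (h : R (baseOf p.left x')),
          y x' h ≫ (f (zx x' h)).left = y _ hkx ≫ (f (zx _ hkx)).left := by
        rintro _ rfl h
        rfl
      rw [← hc' _ e.symm (e ▸ hkx), key (zx x hx) ((yon S).map k ≫ y x hx), Category.assoc])
  have ha' : ∀ z, (ρ z).left ≫ a = (f z).left := fun z => by
    refine hom_ext_points fun T v => ?_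
    have hx : R (baseOf p.left (v ≫ (ρ z).left)) := by
      have : baseOf p.left (v ≫ (ρ z).left) = baseOf (ps z).left v ≫ z.obj.hom := by
        apply (yon S).map_injective
        rw [Functor.map_comp, map_baseOf, map_baseOf, Category.assoc, Category.assoc]
        exact congrArg (v ≫ ·) (congrArg CommaMorphism.left (hc z).w)
      rw [this]
      exact R.downward_closed z.property _
    rw [← Category.assoc, ha _ hx, key z v hx]
  refine ⟨Over.homMk a (hom_ext_over p.left hR fun T x hx => ?_), fun z => Over.OverMorphism.ext (ha' z)⟩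
  rw [← hy₁ x hx, Category.assoc, Category.assoc]
  refine congrArg (y x hx ≫ ·) ?_
  rw [← Category.assoc, ha']
  exact (Over.w (f _)).trans (Over.w (ρ _)).symm

/-- A map over a member-wise identification is an isomorphism. -/
theorem cov_isIso (hR : R ∈ J S U) {Z' : Over B} {p' : Z' ⟶ Over.mk bU} (t : Z ⟶ Z')
    (hc : ∀ z, IsPullback (ρ z) (ps z) p (memHom hbz z))
    (hc' : ∀ z, IsPullback (ρ z ≫ t) (ps z) p' (memHom hbz z)) : IsIso t := by
  obtain ⟨g, hg⟩ := cov_glue hbz hR hc' ρ (fun z z' k s h₁ h₂ => by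
    obtain ⟨s₀, h₀, h₀'⟩ := exists_trans hbz hc k
    have e : s = s₀ := (hc' z').hom_ext
      (h₁.trans (by rw [← Category.assoc, h₀])) (h₂.trans h₀'.symm)
    rw [e, h₀])
  refine ⟨g, cov_ext hbz hR hc fun z => ?_, cov_ext hbz hR hc' fun z => ?_⟩
  · rw [← Category.assoc, hg, Category.comp_id]
  · rw [← Category.assoc, hg, Category.comp_id]

end

end Groth.QuotStk
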