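import Groth.Agent.QuotStk.SpDescent

/-!
# The category of sheaf torsors is fibred in groupoids
-/

set_option autoImplicit false
set_option backward.isDefEq.respectTransparency false
set_option backward.isDefEq.respectTransparency.types false
universe u

open CategoryTheory CategoryTheory.Limits AlgebraicGeometry Opposite AlgSp MonoidalCategory CartesianMonoidalCategory
open CategoryTheory.MonObj
open Groth.AlgSpBasic (yEquiv exists_cover_of_mem)

namespace Groth.QuotStk

noncomputable section

variable {S : Scheme.{u}} {B : Sp S}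

/-- The sieve of the maps along which a map to a representable sheaf acquires a section. -/
def secSieve {T : Over S} {P : Sp S} (π : P ⟶ (yon S).obj T) : Sieve T where
  arrows V k := ∃ s : (yon S).obj V ⟶ P, s ≫ π = (yon S).map k
  downward_closed := by
    rintro V V' k ⟨s, hs⟩ l
    exact ⟨(yon S).map l ≫ s, by rw [Category.assoc, hs, Functor.map_comp]⟩

theorem secSieve_mem_of_hasSecLoc {T : Over S} {P : Sp S} {π : P ⟶ (yon S).obj T}
    (h : AlgSt.HasSecLoc Scheme.fppfPrecoverage π) : secSieve π ∈ J S T := by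
  obtain ⟨C, hC, h⟩ := h
  rw [GrothendieckTopology.mem_over_iff]
  refine GrothendieckTopology.superset_covering _ ?_ (Precoverage.generate_mem_toGrothendieck hC)
  rw [Sieve.generate_le_iff]
  intro V f hf
  rw [Sieve.overEquiv_iff]
  exact h f hf

theorem hasSecLoc_of_secSieve_mem {T : Over S} {P : Sp S} {π : P ⟶ (yon S).obj T}
    (h : secSieve π ∈ J S T) : AlgSt.HasSecLoc Scheme.fppfPrecoverage π := by
  obtain ⟨C, hC, h'⟩ := exists_cover_of_mem h
  exact ⟨C, hC, fun V f hf => h' f hf⟩

theorem secSieve_pullback_le {T T' : Over S} {P P' : Sp S} {π : P ⟶ (yon S).obj T}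
    {π' : P' ⟶ (yon S).obj T'} {top : P' ⟶ P} {f : T' ⟶ T} (h : IsPullback top π' π ((yon S).map f)) :
    (secSieve π).pullback f ≤ secSieve π' := by
  rintro V k ⟨s, hs⟩
  exact ⟨h.lift s ((yon S).map k) (hs.trans ((yon S).map_comp k f)), h.lift_snd _ _ _⟩

variable {G : Over B} [GrpObj G] {X : Over B} {aX : GAction G X}

local notation "QS" => AlgSt.SpQuotObj Scheme.fppfPrecoverage G aX

variable {V : Over S}

/-- The restriction of a torsor along a morphism of bases. -/
theorem exists_pullObj (A : QS) (f : V ⟶ A.base) :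
    ∃ (b : (yon S).obj V ⟶ B) (P : Over B) (act : GAction G P) (π : P ⟶ Over.mk b)
      (cart : IsPullback act.act (snd G P) π π) (loc : AlgSt.HasSecLoc Scheme.fppfPrecoverage π.left)
      (φ : P ⟶ X) (eqv : act.act ≫ φ = (G ◁ φ) ≫ aX.act)
      (l : ({ base := V, b := b, P := P, act := act, π := π, cart := cart, loc := loc, φ := φ,
              eqv := eqv } : QS) ⟶ A), l.base = f := by
  let b := (yon S).map f ≫ A.b
  let e : Over.mk b ⟶ Over.mk A.b := AlgSt.bHom f rfl
  let P := pullback A.π e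
  let q : P ⟶ A.P := pullback.fst _ _
  let π : P ⟶ Over.mk b := pullback.snd _ _
  have sq : IsPullback q π A.π e := IsPullback.of_hasPullback _ _
  have hw : ((G ◁ q) ≫ A.act.act) ≫ A.π = (snd G P ≫ π) ≫ e := by
    rw [Category.assoc, A.cart.w, ← Category.assoc, whiskerLeft_snd, Category.assoc, sq.w, Category.assoc]
  let a : G ⊗ P ⟶ P := sq.lift _ _ hw
  have ha₁ : a ≫ q = (G ◁ q) ≫ A.act.act := sq.lift_fst _ _ _
  have ha₂ : a ≫ π = snd G P ≫ π := sq.lift_snd _ _ _
  have hone : (η[G] ▷ P) ≫ a = (λ_ P).hom := by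
    apply sq.hom_ext
    · rw [Category.assoc, ha₁, ← Category.assoc, ← whisker_exchange, Category.assoc, A.act.one_act,
        leftUnitor_naturality]
    · rw [Category.assoc, ha₂, whiskerRight_snd_assoc, leftUnitor_hom]
  have hmul : (μ[G] ▷ P) ≫ a = (α_ G G P).hom ≫ (G ◁ a) ≫ a := by
    apply sq.hom_ext
    · rw [Category.assoc, ha₁, ← Category.assoc, ← whisker_exchange, Category.assoc, A.act.mul_act,
        Category.assoc, Category.assoc, ha₁, ← MonoidalCategory.whiskerLeft_comp_assoc, ha₁,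
        MonoidalCategory.whiskerLeft_comp, Category.assoc, ← Category.assoc, associator_naturality_right,
        Category.assoc]
    · simp only [Category.assoc, ha₂, whiskerRight_snd_assoc, whiskerLeft_snd_assoc,
        associator_hom_snd_snd_assoc]
  have hcart : IsPullback a (snd G P) π π := by
    refine IsPullback.of_right (h₁₂ := q) (h₂₂ := e) ?_ ha₂ sq
    rw [ha₁, ← sq.w]
    exact (AlgSt.isPullback_whiskerLeft' (G := G) q).paste_horiz A.cart
  have hloc : AlgSt.HasSecLoc Scheme.fppfPrecoverage π.left :=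
    hasSecLoc_of_secSieve_mem (GrothendieckTopology.superset_covering _
      (secSieve_pullback_le (isPullback_left' sq))
      ((J S).pullback_stable f (secSieve_mem_of_hasSecLoc A.loc)))
  refine ⟨b, P, ⟨a, hone, hmul⟩, π, hcart, hloc, q ≫ A.φ, ?_, ⟨f, rfl, q, ha₁, sq, rfl⟩, rfl⟩
  show a ≫ q ≫ A.φ = _
  rw [← Category.assoc, ha₁, Category.assoc, A.eqv, ← MonoidalCategory.whiskerLeft_comp_assoc]

/-- Morphisms of torsors are cartesian. -/
theorem existsUnique_hom {A A' A'' : QS} (φ : A' ⟶ A) (ψ : A'' ⟶ A) (g : A''.base ⟶ A'.base)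
    (hg : g ≫ φ.base = ψ.base) : ∃! χ : A'' ⟶ A', χ.base = g ∧ χ ≫ φ = ψ := by
  have wb : (yon S).map g ≫ A'.b = A''.b := by
    rw [← φ.wb, ← Category.assoc, ← Functor.map_comp, hg, ψ.wb]
  have e : AlgSt.bHom g wb ≫ AlgSt.bHom φ.base φ.wb = AlgSt.bHom ψ.base ψ.wb :=
    Over.OverMorphism.ext (((yon S).map_comp g φ.base).symm.trans (congrArg (yon S).map hg))
  have hw : ψ.top ≫ A.π = (A''.π ≫ AlgSt.bHom g wb) ≫ AlgSt.bHom φ.base φ.wb := by
    rw [Category.assoc, e, ψ.cart.w]
  let t := φ.cart.lift _ _ hw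
  have ht₁ : t ≫ φ.top = ψ.top := φ.cart.lift_fst _ _ _
  have ht₂ : t ≫ A'.π = A''.π ≫ AlgSt.bHom g wb := φ.cart.lift_snd _ _ _
  have heqv : A''.act.act ≫ t = (G ◁ t) ≫ A'.act.act := by
    apply φ.cart.hom_ext
    · rw [Category.assoc, ht₁, Category.assoc, φ.eqv, ψ.eqv, ← MonoidalCategory.whiskerLeft_comp_assoc, ht₁]
    · rw [Category.assoc, ht₂, Category.assoc, A'.cart.w, ← Category.assoc, A''.cart.w, whiskerLeft_snd_assoc,
        ht₂, Category.assoc]
  have hcart : IsPullback t A''.π A'.π (AlgSt.bHom g wb) := by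
    refine IsPullback.of_right (h₁₂ := φ.top) (h₂₂ := AlgSt.bHom φ.base φ.wb) ?_ ht₂ φ.cart
    rw [ht₁, e]
    exact ψ.cart
  have hφ : t ≫ A'.φ = A''.φ := by rw [← φ.wφ, ← Category.assoc, ht₁, ψ.wφ]
  refine ⟨⟨g, wb, t, heqv, hcart, hφ⟩, ⟨rfl, AlgSt.SpQuotObj.hom_ext hg ht₁⟩, ?_⟩
  rintro χ ⟨h₁, h₂⟩
  refine AlgSt.SpQuotObj.hom_ext h₁ (φ.cart.hom_ext ?_ ?_)
  · exact (congrArg (fun m => m.top) h₂).trans ht₁.symm
  · refine χ.cart.w.trans (Eq.trans ?_ ht₂.symm)
    exact congrArg (A''.π ≫ ·) (Over.OverMorphism.ext (congrArg (yon S).map h₁))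

/-- A chosen restriction of a torsor. -/
def pullObj (A : QS) (f : V ⟶ A.base) : QS :=
  { base := V
    b := (exists_pullObj A f).choose
    P := (exists_pullObj A f).choose_spec.choose
    act := (exists_pullObj A f).choose_spec.choose_spec.choose
    π := (exists_pullObj A f).choose_spec.choose_spec.choose_spec.choose
    cart := (exists_pullObj A f).choose_spec.choose_spec.choose_spec.choose_spec.choose
    loc := (exists_pullObj A f).choose_spec.choose_spec.choose_spec.choose_spec.choose_spec.choose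
    φ := (exists_pullObj A f).choose_spec.choose_spec.choose_spec.choose_spec.choose_spec.choose_spec.choose
    eqv := (exists_pullObj A f).choose_spec.choose_spec.choose_spec.choose_spec.choose_spec.choose_spec.choose_spec.choose }

/-- The map of a restriction to the torsor. -/
def pullHom (A : QS) (f : V ⟶ A.base) : pullObj A f ⟶ A :=
  (exists_pullObj A f).choose_spec.choose_spec.choose_spec.choose_spec.choose_spec.choose_spec.choose_spec.choose_spec.choose

theorem pullHom_base (A : QS) (f : V ⟶ A.base) : (pullHom A f).base = f :=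
  (exists_pullObj A f).choose_spec.choose_spec.choose_spec.choose_spec.choose_spec.choose_spec.choose_spec.choose_spec.choose_spec

variable (G aX) in
theorem isFibGrpd_spQuotSt : FibCat.IsFibGrpd (AlgSt.SpQuotSt Scheme.fppfPrecoverage G aX).p where
  exists_lift := fun {A} {V} f => ⟨pullObj A f, pullHom A f, by
    have h := IsHomLift.map (AlgSt.SpQuotSt Scheme.fppfPrecoverage G aX).p (pullHom A f)
    change (AlgSt.SpQuotObj.forget Scheme.fppfPrecoverage G aX).IsHomLift (pullHom A f).base (pullHom A f) at h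
    rwa [pullHom_base] at h⟩
  isStronglyCartesian := fun {A' A} φ =>
    { universal_property' := fun {A''} g ψ hψ => by
        have hψ' : (AlgSt.SpQuotSt Scheme.fppfPrecoverage G aX).p.IsHomLift
            (g ≫ (AlgSt.SpQuotSt Scheme.fppfPrecoverage G aX).p.map φ) ψ := hψ
        have hg : g ≫ φ.base = ψ.base :=
          IsHomLift.eq_of_isHomLift (AlgSt.SpQuotSt Scheme.fppfPrecoverage G aX).p
            (g ≫ (AlgSt.SpQuotSt Scheme.fppfPrecoverage G aX).p.map φ) ψ
        obtain ⟨χ, ⟨h₁, h₂⟩, hu⟩ := existsUnique_hom φ ψ g hg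
        refine ⟨χ, ⟨?_, h₂⟩, fun χ' h => hu χ' ⟨?_, h.2⟩⟩
        · rw [← h₁]
          exact IsHomLift.map (AlgSt.SpQuotSt Scheme.fppfPrecoverage G aX).p χ
        · have := h.1
          exact (IsHomLift.eq_of_isHomLift (AlgSt.SpQuotSt Scheme.fppfPrecoverage G aX).p g χ').symm }

end

end Groth.QuotStk
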