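import Groth.Agent.QuotStk.SpQuotStack
import Groth.Agent.StkBase.FibProd
import Groth.Agent.StkBase.Yoneda
import Groth.Agent.AlgSpFppf.TorsorSpace

/-!
# The fibres of the canonical map to a quotient stack of sheaf torsors
-/

set_option autoImplicit false
set_option backward.isDefEq.respectTransparency false
set_option backward.isDefEq.respectTransparency.types false
set_option linter.unusedSimpArgs false
set_option linter.unusedVariables false
universe u

open CategoryTheory CategoryTheory.Limits AlgebraicGeometry Opposite AlgSp MonoidalCategory CartesianMonoidalCategory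
open CategoryTheory.MonObj
open AlgSt (secYon secOver bHom spLeftMul)
open Groth.StkBase (IsVert idObj toId map_map fpMk fpHom fpObjIso fp_isVert fp_hom_ext exists_vert_iso_of_lifts
  hom_eq_of_comp_eq)

namespace Groth.QuotStk

noncomputable section

variable {S : Scheme.{u}} {B : Sp S} {G X : Over B} [GrpObj G] {aX : GAction G X}

local notation "QS" => AlgSt.SpQuotObj Scheme.fppfPrecoverage G aX
local notation "QSt" => AlgSt.SpQuotSt Scheme.fppfPrecoverage G aX

/-- The orbit map of a point is equivariant. -/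
theorem spLeftMul_orbit {Y T : Over B} (a : GAction G Y) (m : T ⟶ Y) :
    (spLeftMul G T).act ≫ (G ◁ m) ≫ a.act = (G ◁ ((G ◁ m) ≫ a.act)) ≫ a.act := by
  have hμ : fst (G ⊗ G) Y ≫ μ[G] = (fst _ _ ≫ fst G G) * (fst _ _ ≫ snd G G) := by
    rw [Hom.mul_def, ← comp_lift, lift_fst_snd, Category.comp_id]
  have h : (spLeftMul G T).act ≫ (G ◁ m) = (G ◁ (G ◁ m)) ≫ (α_ G G Y).inv ≫ (μ[G] ▷ Y) := by
    apply CartesianMonoidalCategory.hom_ext
    · simp only [spLeftMul, Category.assoc, lift_fst, lift_snd, lift_fst_assoc, lift_snd_assoc, comp_lift, comp_mul, whiskerLeft_fst, whiskerLeft_snd, whiskerLeft_fst_assoc, whiskerLeft_snd_assoc, whiskerRight_fst, whiskerRight_snd, whiskerRight_fst_assoc, whiskerRight_snd_assoc, associator_inv_fst_fst, associator_inv_fst_snd, associator_inv_snd, associator_inv_fst_fst_assoc, associator_inv_fst_snd_assoc, associator_inv_snd_assoc, hμ]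
    · simp only [spLeftMul, Category.assoc, lift_fst, lift_snd, lift_fst_assoc, lift_snd_assoc, comp_lift, comp_mul, whiskerLeft_fst, whiskerLeft_snd, whiskerLeft_fst_assoc, whiskerLeft_snd_assoc, whiskerRight_fst, whiskerRight_snd, whiskerRight_fst_assoc, whiskerRight_snd_assoc, associator_inv_fst_fst, associator_inv_fst_snd, associator_inv_snd, associator_inv_fst_fst_assoc, associator_inv_fst_snd_assoc, associator_inv_snd_assoc]
  have hm : (G ◁ a.act) ≫ a.act = (α_ G G Y).inv ≫ (μ[G] ▷ Y) ≫ a.act := by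
    rw [a.mul_act, Iso.inv_hom_id_assoc]
  rw [MonoidalCategory.whiskerLeft_comp, Category.assoc, hm, reassoc_of% h]

variable (G) in
/-- The unit section over an object of `Over B`. -/
def spUnitSec (T : Over B) : T ⟶ G ⊗ T := lift (toUnit T ≫ η[G]) (𝟙 T)

theorem spUnitSec_snd (T : Over B) : spUnitSec G T ≫ snd G T = 𝟙 T := lift_snd _ _

theorem spUnitSec_naturality {T' T : Over B} (k : T' ⟶ T) :
    spUnitSec G T' ≫ (G ◁ k) = k ≫ spUnitSec G T := by
  apply CartesianMonoidalCategory.hom_ext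
  · simp [spUnitSec]
  · simp [spUnitSec]

theorem spUnitSec_act {Y T : Over B} (a : GAction G Y) (m : T ⟶ Y) :
    spUnitSec G T ≫ (G ◁ m) ≫ a.act = m := by
  have e : spUnitSec G T ≫ (G ◁ m) = lift (toUnit T) m ≫ (η[G] ▷ Y) := by
    apply CartesianMonoidalCategory.hom_ext <;> simp [spUnitSec]
  rw [← Category.assoc, e, Category.assoc, a.one_act, leftUnitor_hom, lift_snd]

theorem spLeftMul_unit (T : Over B) : (G ◁ spUnitSec G T) ≫ (spLeftMul G T).act = 𝟙 _ := by
  apply CartesianMonoidalCategory.hom_ext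
  · simp only [spUnitSec, AlgSt.spLeftMul, Category.assoc, lift_fst, comp_mul, whiskerLeft_fst,
      whiskerLeft_snd_assoc, Category.id_comp]
    rw [← Category.assoc (snd G T), toUnit_unique (snd G T ≫ toUnit T) (toUnit _), ← Hom.one_def,
      _root_.mul_one]
  · simp only [spUnitSec, AlgSt.spLeftMul, Category.assoc, lift_snd, whiskerLeft_snd_assoc, Category.comp_id,
      Category.id_comp]

variable (aX) in
/-- The canonical functor at a point. -/
abbrev spTriv (x : (AlgSt.ofSp X.left).obj) : QS :=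
  (AlgSt.spQuotMap Scheme.fppfPrecoverage G aX).obj x

/-- The point of a torsor determined by a morphism from a trivial torsor. -/
def spPtOf {x : (AlgSt.ofSp X.left).obj} {A : QS} (h : spTriv aX x ⟶ A) :
    (yon S).obj x.base ⟶ A.P.left :=
  (spUnitSec G (Over.mk (secYon x ≫ X.hom)) ≫ h.top).left

theorem spPtOf_π {x : (AlgSt.ofSp X.left).obj} {A : QS} (h : spTriv aX x ⟶ A) :
    spPtOf h ≫ A.π.left = (yon S).map h.base := by
  have e : h.top ≫ A.π = snd G _ ≫ bHom h.base h.wb := h.cart.w
  have e' : (spUnitSec G (Over.mk (secYon x ≫ X.hom)) ≫ h.top) ≫ A.π = bHom h.base h.wb :=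
    ((Category.assoc _ _ _).trans (congrArg (spUnitSec G _ ≫ ·) e)).trans
      ((Category.assoc _ _ _).symm.trans
        ((congrArg (· ≫ bHom h.base h.wb) (spUnitSec_snd _)).trans (Category.id_comp _)))
  exact congrArg CommaMorphism.left e'

theorem spPtOf_φ {x : (AlgSt.ofSp X.left).obj} {A : QS} (h : spTriv aX x ⟶ A) :
    spPtOf h ≫ A.φ.left = secYon x := by
  have e : h.top ≫ A.φ = (G ◁ secOver x) ≫ aX.act := h.wφ
  have e' : (spUnitSec G (Over.mk (secYon x ≫ X.hom)) ≫ h.top) ≫ A.φ = secOver x := by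
    rw [Category.assoc, e, spUnitSec_act]
  exact congrArg CommaMorphism.left e'

theorem spHom_ext_of_ptOf {x : (AlgSt.ofSp X.left).obj} {A : QS} {h h' : spTriv aX x ⟶ A}
    (hb : h.base = h'.base) (hp : spPtOf h = spPtOf h') : h = h' := by
  have key : ∀ k : spTriv aX x ⟶ A,
      k.top = (G ◁ (spUnitSec G (Over.mk (secYon x ≫ X.hom)) ≫ k.top)) ≫ A.act.act := fun k => by
    have e : (spLeftMul G _).act ≫ k.top = (G ◁ k.top) ≫ A.act.act := k.eqv
    have e₁ := congrArg ((G ◁ spUnitSec G (Over.mk (secYon x ≫ X.hom))) ≫ ·) e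
    simp only [← Category.assoc, spLeftMul_unit, ← MonoidalCategory.whiskerLeft_comp] at e₁
    exact (Category.id_comp _).symm.trans e₁
  have hp' : spUnitSec G _ ≫ h.top = spUnitSec G _ ≫ h'.top := Over.OverMorphism.ext hp
  exact AlgSt.SpQuotObj.hom_ext hb (by rw [key h, key h', hp'])

/-- The point of `X` under a point of a torsor. -/
def spImgPt {T : Over S} (A : QS) (σ : (yon S).obj T ⟶ A.P.left) : (AlgSt.ofSp X.left).obj :=
  ⟨T, (J S).uliftYonedaEquiv (σ ≫ A.φ.left)⟩

theorem secYon_spImgPt {T : Over S} (A : QS) (σ : (yon S).obj T ⟶ A.P.left) :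
    secYon (spImgPt A σ) = σ ≫ A.φ.left := Equiv.symm_apply_apply _ _

/-- The scheme map under a point of a torsor. -/
def spBaseOf {T : Over S} (A : QS) (σ : (yon S).obj T ⟶ A.P.left) : T ⟶ A.base :=
  (yon S).preimage (σ ≫ A.π.left)

theorem map_spBaseOf {T : Over S} (A : QS) (σ : (yon S).obj T ⟶ A.P.left) :
    (yon S).map (spBaseOf A σ) = σ ≫ A.π.left := (yon S).map_preimage _

theorem wb_spBaseOf {T : Over S} (A : QS) (σ : (yon S).obj T ⟶ A.P.left) :
    (yon S).map (spBaseOf A σ) ≫ A.b = secYon (spImgPt A σ) ≫ X.hom := by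
  rw [map_spBaseOf, secYon_spImgPt, Category.assoc, Category.assoc, Over.w A.φ]
  exact congrArg (σ ≫ ·) (Over.w A.π)

/-- A point of a torsor as a map over `B`. -/
def spOverPt {T : Over S} (A : QS) (σ : (yon S).obj T ⟶ A.P.left) :
    Over.mk (secYon (spImgPt A σ) ≫ X.hom) ⟶ A.P :=
  Over.homMk σ (by
    show σ ≫ A.P.hom = secYon (spImgPt A σ) ≫ X.hom
    rw [secYon_spImgPt, Category.assoc, Over.w A.φ])

/-- The morphism from a trivial torsor given by a point. -/
def spHomOfPt {T : Over S} (A : QS) (σ : (yon S).obj T ⟶ A.P.left) : spTriv aX (spImgPt A σ) ⟶ A where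
  base := spBaseOf A σ
  wb := wb_spBaseOf A σ
  top := (G ◁ spOverPt A σ) ≫ A.act.act
  eqv := spLeftMul_orbit A.act (spOverPt A σ)
  cart := by
    have e : spOverPt A σ ≫ A.π = bHom (spBaseOf A σ) (wb_spBaseOf A σ) :=
      Over.OverMorphism.ext (map_spBaseOf A σ).symm
    have h := (AlgSt.isPullback_whiskerLeft' (G := G) (spOverPt A σ)).paste_horiz A.cart
    rw [e] at h
    exact h
  wφ := by
    show ((G ◁ spOverPt A σ) ≫ A.act.act) ≫ A.φ = (G ◁ secOver (spImgPt A σ)) ≫ aX.act
    rw [Category.assoc, A.eqv, ← MonoidalCategory.whiskerLeft_comp_assoc,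
      show spOverPt A σ ≫ A.φ = secOver (spImgPt A σ) from
        Over.OverMorphism.ext (secYon_spImgPt A σ).symm]

theorem spPtOf_homOfPt {T : Over S} (A : QS) (σ : (yon S).obj T ⟶ A.P.left) :
    spPtOf (spHomOfPt A σ) = σ :=
  congrArg CommaMorphism.left (spUnitSec_act A.act (spOverPt A σ))

theorem spPtOf_comp_map {x x' : (AlgSt.ofSp X.left).obj} {A : QS} (m : x' ⟶ x) (h : spTriv aX x ⟶ A) :
    spPtOf ((AlgSt.spQuotMap Scheme.fppfPrecoverage G aX).map m ≫ h) =
      (yon S).map m.hom ≫ spPtOf h := by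
  have w : (yon S).map m.hom ≫ secYon x ≫ X.hom = secYon x' ≫ X.hom := by
    rw [← Category.assoc, AlgSt.secYon_comp]
  exact congrArg CommaMorphism.left (((Category.assoc _ _ _).symm.trans
    ((congrArg (· ≫ h.top) (spUnitSec_naturality (bHom m.hom w))).trans (Category.assoc _ _ _))) :
      spUnitSec G (Over.mk (secYon x' ≫ X.hom)) ≫ (G ◁ bHom m.hom w) ≫ h.top =
        bHom m.hom w ≫ spUnitSec G (Over.mk (secYon x ≫ X.hom)) ≫ h.top)

section Fibre

variable {U : Over S} (y : FibCat.overCat U ⥤ᵇ AlgSt.SpQuotSt Scheme.fppfPrecoverage G aX)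

/-- The torsor classified by `y`. -/
abbrev spTorsor : QS := y.obj (idObj U)

theorem spTorsor_base : (spTorsor y).base = U := y.w_obj (idObj U)

theorem spMap_toId_base (g : (FibCat.overCat U).obj) :
    (y.map (toId g)).base = eqToHom (y.w_obj g) ≫ g.hom ≫ eqToHom (spTorsor_base y).symm :=
  map_map y (toId g)

/-- The map to `U` under a point of the torsor. -/
def spToU {T : Over S} (σ : (yon S).obj T ⟶ (spTorsor y).P.left) : T ⟶ U :=
  spBaseOf (spTorsor y) σ ≫ eqToHom (spTorsor_base y)

theorem exists_spFibre_iso {T : Over S} (σ : (yon S).obj T ⟶ (spTorsor y).P.left) :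
    ∃ i : y.obj (Over.mk (spToU y σ)) ≅ spTriv aX (spImgPt (spTorsor y) σ), IsVert (QSt).p i.hom ∧
      i.hom ≫ spHomOfPt (spTorsor y) σ = y.map (toId (Over.mk (spToU y σ))) := by
  refine exists_vert_iso_of_lifts (isFibGrpd_spQuotSt G aX) _ _ (y.w_obj (Over.mk (spToU y σ))) ?_
  refine (spMap_toId_base y _).trans ?_
  show _ = eqToHom _ ≫ spBaseOf (spTorsor y) σ
  simp [spToU]

/-- The isomorphism of an object of the fibre. -/
def spFibreIso {T : Over S} (σ : (yon S).obj T ⟶ (spTorsor y).P.left) :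
    y.obj (Over.mk (spToU y σ)) ≅ spTriv aX (spImgPt (spTorsor y) σ) := (exists_spFibre_iso y σ).choose

theorem spFibreIso_vert {T : Over S} (σ : (yon S).obj T ⟶ (spTorsor y).P.left) :
    IsVert (QSt).p (spFibreIso y σ).hom :=
  (exists_spFibre_iso y σ).choose_spec.1

theorem spFibreIso_comp {T : Over S} (σ : (yon S).obj T ⟶ (spTorsor y).P.left) :
    (spFibreIso y σ).hom ≫ spHomOfPt (spTorsor y) σ = y.map (toId (Over.mk (spToU y σ))) :=
  (exists_spFibre_iso y σ).choose_spec.2

theorem spToId_comp_map {a b : (FibCat.overCat U).obj} (f : a ⟶ b) :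
    y.map f ≫ y.map (toId b) = y.map (toId a) :=
  (y.toFunctor.map_comp _ _).symm.trans (congrArg y.map (Groth.StkBase.toId_naturality f))

theorem spToU_comp {T T' : Over S} (k : T' ⟶ T) {σ : (yon S).obj T ⟶ (spTorsor y).P.left}
    {σ' : (yon S).obj T' ⟶ (spTorsor y).P.left} (hk : (yon S).map k ≫ σ = σ') :
    k ≫ spToU y σ = spToU y σ' := by
  rw [spToU, spToU, ← Category.assoc]
  refine congrArg (· ≫ _) ((yon S).map_injective ?_)
  rw [Functor.map_comp, map_spBaseOf, map_spBaseOf, ← Category.assoc, hk]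

theorem spFibre_w {T T' : Over S} (σ : (yon S).obj T ⟶ (spTorsor y).P.left)
    (σ' : (yon S).obj T' ⟶ (spTorsor y).P.left) (k : T' ⟶ T)
    (m : Over.mk (spToU y σ') ⟶ Over.mk (spToU y σ)) (hm : m.left = k)
    (m' : spImgPt (spTorsor y) σ' ⟶ spImgPt (spTorsor y) σ) (hm' : m'.hom = k)
    (hk : (yon S).map k ≫ σ = σ') :
    y.map m ≫ (spFibreIso y σ).hom =
      (spFibreIso y σ').hom ≫ (AlgSt.spQuotMap Scheme.fppfPrecoverage G aX).map m' := by
  have hv := (spFibreIso_vert y σ).map_eq
  have hv' := (spFibreIso_vert y σ').map_eq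
  subst hm
  apply hom_eq_of_comp_eq (isFibGrpd_spQuotSt G aX) (spHomOfPt (spTorsor y) σ)
  · show (y.map m).base ≫ (spFibreIso y σ).hom.base = (spFibreIso y σ').hom.base ≫ m'.hom
    refine ((congrArg₂ (· ≫ ·) (map_map y m) hv).trans ?_).trans (congrArg (· ≫ m'.hom) hv').symm
    rw [hm']
    simp
    rfl
  · refine ((Category.assoc _ _ _).trans ((congrArg (y.map m ≫ ·) (spFibreIso_comp y σ)).trans
      (spToId_comp_map y m))).trans ((spFibreIso_comp y σ').symm.trans ?_)
    refine (congrArg ((spFibreIso y σ').hom ≫ ·) ?_).trans (Category.assoc _ _ _).symm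
    refine spHom_ext_of_ptOf ?_ ?_
    · refine (yon S).map_injective ?_
      show (yon S).map (spBaseOf (spTorsor y) σ') = (yon S).map (m'.hom ≫ spBaseOf (spTorsor y) σ)
      rw [Functor.map_comp, map_spBaseOf, map_spBaseOf, hm', ← Category.assoc, hk]
    · rw [spPtOf_homOfPt, spPtOf_comp_map, spPtOf_homOfPt, hm', hk]

theorem map_hom_spImgPt {a b : (AlgSt.ofSp (spTorsor y).P.left).obj} (f : a ⟶ b) :
    X.left.obj.map f.hom.op (spImgPt (spTorsor y) (secYon b)).sec =
      (spImgPt (spTorsor y) (secYon a)).sec := by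
  show X.left.obj.map f.hom.op ((J S).uliftYonedaEquiv (secYon b ≫ (spTorsor y).φ.left)) = _
  rw [(J S).uliftYonedaEquiv_naturality]
  refine congrArg _ ?_
  show (yon S).map f.hom ≫ secYon b ≫ _ = _
  rw [← Category.assoc, AlgSt.secYon_comp]

/-- The sheaf `P` maps to the fibre. -/
def spFibreFunctor :
    AlgSt.ofSp (spTorsor y).P.left ⥤ᵇ FibCat.fp y (AlgSt.spQuotMap Scheme.fppfPrecoverage G aX) where
  toFunctor :=
    { obj := fun a => fpMk (F := y) (G := AlgSt.spQuotMap Scheme.fppfPrecoverage G aX)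
        (Over.mk (spToU y (secYon a))) (spImgPt (spTorsor y) (secYon a))
        (spFibreIso y (secYon a)) (spFibreIso_vert y (secYon a))
      map := fun {a b} f =>
        fpHom (Over.homMk f.hom (spToU_comp y f.hom (AlgSt.secYon_comp f)))
          (⟨f.hom, map_hom_spImgPt y f⟩ : spImgPt (spTorsor y) (secYon a) ⟶ spImgPt (spTorsor y) (secYon b))
          (spFibre_w y (secYon b) (secYon a) f.hom _ rfl _ rfl (AlgSt.secYon_comp f))
      map_id := fun a => fp_hom_ext (Over.OverMorphism.ext rfl) (Stk.EltObj.hom_ext rfl)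
      map_comp := fun f g => fp_hom_ext (Over.OverMorphism.ext rfl) (Stk.EltObj.hom_ext rfl) }
  w := rfl

theorem isEquivOver_spFibreFunctor : FibCat.IsEquivOver (spFibreFunctor y) := by
  refine Groth.StkBase.isEquivOver_of_fullyFaithful _ ⟨fun {a b} m => ?_⟩ ⟨fun {a b} f g h => ?_⟩ fun z => ?_
  · let k : a.base ⟶ b.base := m.hom.fst.left
    have hs : m.hom.snd.hom = k := (Groth.StkBase.fp_map_snd m).trans (by
      show eqToHom _ ≫ k ≫ eqToHom _ = k
      simp)
    have w : y.map m.hom.fst ≫ (spFibreIso y (secYon b)).hom =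
        (spFibreIso y (secYon a)).hom ≫ (AlgSt.spQuotMap Scheme.fppfPrecoverage G aX).map m.hom.snd :=
      m.hom.w
    have e : spHomOfPt (spTorsor y) (secYon a) =
        (AlgSt.spQuotMap Scheme.fppfPrecoverage G aX).map m.hom.snd ≫ spHomOfPt (spTorsor y) (secYon b) := by
      rw [← cancel_epi (spFibreIso y (secYon a)).hom, spFibreIso_comp, ← Category.assoc, ← w,
        Category.assoc, spFibreIso_comp]
      exact (spToId_comp_map y m.hom.fst).symm
    have hk : (spTorsor y).P.left.obj.map k.op b.sec = a.sec := by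
      have e' := congrArg spPtOf e
      rw [spPtOf_homOfPt, spPtOf_comp_map, spPtOf_homOfPt, hs] at e'
      have e'' := congrArg (J S).uliftYonedaEquiv e'
      rw [← (J S).uliftYonedaEquiv_naturality] at e''
      exact ((congrArg ((spTorsor y).P.left.obj.map k.op) (Equiv.apply_symm_apply _ b.sec)).symm.trans
        e''.symm).trans (Equiv.apply_symm_apply _ a.sec)
    exact ⟨⟨k, hk⟩, fp_hom_ext (Over.OverMorphism.ext rfl) (Stk.EltObj.hom_ext hs.symm)⟩
  · exact Stk.EltObj.hom_ext (congrArg (fun m => m.hom.fst.left) h)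
  · have hz : z.obj.snd.base = z.obj.fst.left := Groth.StkBase.fp_p_snd z
    let h : spTriv aX z.obj.snd ⟶ spTorsor y := z.obj.iso.inv ≫ y.map (toId z.obj.fst)
    have hbase : h.base = eqToHom hz ≫ z.obj.fst.hom ≫ eqToHom (spTorsor_base y).symm := by
      show z.obj.iso.inv.base ≫ (y.map (toId z.obj.fst)).base = _
      rw [spMap_toId_base]
      have : z.obj.iso.inv.base = eqToHom _ := (Groth.StkBase.IsVert.inv (fp_isVert z)).map_eq
      rw [this]
      simp
    let a : (AlgSt.ofSp (spTorsor y).P.left).obj :=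
      ⟨z.obj.snd.base, (J S).uliftYonedaEquiv (spPtOf h)⟩
    have ha : secYon a = spPtOf h := Equiv.symm_apply_apply _ _
    have hb : spBaseOf (spTorsor y) (secYon a) = h.base :=
      (yon S).map_injective (by rw [map_spBaseOf, ha, spPtOf_π])
    have e₁ : spToU y (secYon a) = eqToHom hz ≫ z.obj.fst.hom := by
      rw [spToU, hb, hbase]
      simp
    have hx : spImgPt (spTorsor y) (secYon a) = z.obj.snd := by
      have : (J S).uliftYonedaEquiv (secYon a ≫ (spTorsor y).φ.left) = z.obj.snd.sec := by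
        rw [ha, spPtOf_φ]
        exact Equiv.apply_symm_apply _ _
      exact congrArg (Stk.EltObj.mk z.obj.snd.base) this
    let ifst : Over.mk (spToU y (secYon a)) ≅ z.obj.fst := Over.isoMk (eqToIso hz) e₁.symm
    let isnd : spImgPt (spTorsor y) (secYon a) ≅ z.obj.snd := eqToIso hx
    have hisnd : isnd.hom.hom = 𝟙 _ := by
      have : ∀ {p q : (AlgSt.ofSp X.left).obj} (e : p = q), (eqToHom e).hom = eqToHom (congrArg (·.base) e) := by
        rintro p q rfl; rfl
      exact (this hx).trans (by simp)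
    have hw : y.map ifst.hom ≫ z.obj.iso.hom =
        (spFibreIso y (secYon a)).hom ≫ (AlgSt.spQuotMap Scheme.fppfPrecoverage G aX).map isnd.hom := by
      apply hom_eq_of_comp_eq (isFibGrpd_spQuotSt G aX) h
      · show (y.map ifst.hom).base ≫ z.obj.iso.hom.base = (spFibreIso y (secYon a)).hom.base ≫ isnd.hom.hom
        refine ((congrArg₂ (· ≫ ·) (map_map y ifst.hom) (fp_isVert z).map_eq).trans ?_).trans
          (congrArg (· ≫ isnd.hom.hom) (spFibreIso_vert y (secYon a)).map_eq).symm
        rw [hisnd]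
        simp [ifst]
        rw [show (FibCat.overCat U).p.map (Over.isoMk (eqToIso hz) e₁.symm : Over.mk (spToU y (secYon a)) ≅ z.obj.fst).hom =
          eqToHom hz from rfl]
        simp
      · refine ((Category.assoc _ _ _).trans (congrArg (_ ≫ ·) (z.obj.iso.hom_inv_id_assoc _))).trans
          ((spToId_comp_map y ifst.hom).trans ((spFibreIso_comp y (secYon a)).symm.trans ?_))
        refine (congrArg ((spFibreIso y (secYon a)).hom ≫ ·) ?_).trans (Category.assoc _ _ _).symm
        refine spHom_ext_of_ptOf ?_ ?_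
        · show spBaseOf (spTorsor y) (secYon a) = isnd.hom.hom ≫ h.base
          rw [hisnd, hb]
          exact (Category.id_comp _).symm
        · rw [spPtOf_homOfPt, spPtOf_comp_map, hisnd, ha]
          exact ((congrArg (· ≫ spPtOf h) ((yon S).map_id _)).trans (Category.id_comp _)).symm
    refine ⟨a, fpObjIso ifst isnd hw, hz, ?_⟩
    show ifst.hom.left = _
    simp [ifst]

theorem spMapOfOver_spFibreFunctor :
    AlgSt.spMapOfOver (BasedFunctor.comp (spFibreFunctor y) (FibCat.fpFst y (AlgSt.spQuotMap Scheme.fppfPrecoverage G aX))) =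
      (spTorsor y).π.left ≫ (yon S).map (eqToHom (spTorsor_base y)) := by
  refine Groth.AlgSp2.hom_ext_yon fun T σ => ?_
  apply (J S).uliftYonedaEquiv.injective
  rw [(J S).uliftYonedaEquiv_comp]
  refine (AlgSt.spMapOfOver_app _ T _).trans ?_
  obtain ⟨k, hk⟩ := (yon S).map_surjective (σ ≫ (spTorsor y).π.left)
  rw [← Category.assoc, ← hk, ← Functor.map_comp, (J S).uliftYonedaEquiv_uliftYoneda_map]
  refine ULift.ext _ _ ?_
  show 𝟙 _ ≫ spToU y (secYon (X := (spTorsor y).P) ⟨T, (J S).uliftYonedaEquiv σ⟩) = _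
  rw [Category.id_comp, show secYon (X := (spTorsor y).P) ⟨T, (J S).uliftYonedaEquiv σ⟩ = σ from
    Equiv.symm_apply_apply _ _, spToU]
  refine congrArg (· ≫ _) ((yon S).map_injective ?_)
  rw [map_spBaseOf, hk]

end Fibre

/-- The canonical map to a quotient stack is representable with every property that torsor
structure maps have. -/
theorem repByAlgSpWith_spQuotMap (hB : IsAlgSpace B) (hG : IsAlgSpace G.left)
    (P : MorphismProperty (Sp S))
    (h : ∀ (A : AlgSt.SpQuotObj Scheme.fppfPrecoverage G aX) (U : Over S) (e : A.base = U),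
      P (A.π.left ≫ (yon S).map (eqToHom e))) :
    AlgSt.RepByAlgSpWith P (AlgSt.spQuotMap Scheme.fppfPrecoverage G aX) :=
  fun U y => ⟨⟨(spTorsor y).P.left, Groth.AlgSpFppf.isAlgSpace_torsor hB hG _⟩, spFibreFunctor y,
    isEquivOver_spFibreFunctor y, by
      rw [spMapOfOver_spFibreFunctor]
      exact h (spTorsor y) U (spTorsor_base y)⟩

end

end Groth.QuotStk
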